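import Mathlib
import Cfsg.Agent.TypeD4Two.FieldIso
import Cfsg.Agent.Prune
set_option linter.all false
prune_inst 0x7f00000000000000000000000000000000000000000000000000000000000000000000000000000000000000000000000000000000000000000000000000000000000000000000000000000000000000003fffffffffffffffffffffffffffbeffbdffffffff
open scoped Cfsg.Agent.FastGrp

/-!
# Small Ree groups over isomorphic fields
-/

set_option autoImplicit false

namespace Cfsg.Agent.H362.ReeField

open Cfsg.Lie Cfsg.Agent.TypeD4Two.FieldIso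

variable {F K : Type*} [Field F] [Field K] (σ : F ≃+* K)

theorem mapW_U (e : ℕ) (t u v : F) : mapW σ (reeWordU e t u v) = reeWordU e (σ t) (σ u) (σ v) := by
  simp [mapW, reeWordU]

theorem mapW_V (e : ℕ) (t u v : F) : mapW σ (reeWordV e t u v) = reeWordV e (σ t) (σ u) (σ v) := by
  simp [mapW, reeWordV, reeWordU, ChevalleyDatum.negWord]

theorem g2Words_map (e : ℕ) : mapW σ '' g2Words F e = g2Words K e := by
  apply Set.eq_of_subset_of_subset
  · rintro _ ⟨w, ⟨t, u, v, rfl | rfl⟩, rfl⟩
    · exact ⟨σ t, σ u, σ v, Or.inl (mapW_U σ e t u v)⟩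
    · exact ⟨σ t, σ u, σ v, Or.inr (mapW_V σ e t u v)⟩
  · rintro w ⟨t, u, v, rfl | rfl⟩
    · refine ⟨_, ⟨σ.symm t, σ.symm u, σ.symm v, Or.inl rfl⟩, ?_⟩
      rw [mapW_U]
      simp
    · refine ⟨_, ⟨σ.symm t, σ.symm u, σ.symm v, Or.inr rfl⟩, ?_⟩
      rw [mapW_V]
      simp

/-- `²G₂` over isomorphic fields. -/
noncomputable def twistedG2Congr (e : ℕ) : twistedG2 F e ≃* twistedG2 K e :=
  ((twistedG2 F e).equivMapOfInjective _ (map_injective' σ chevG2)).trans
    (MulEquiv.subgroupCongr (by
      unfold twistedG2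
      rw [genSubgroup_map, g2Words_map]))

theorem twistedG2_congr {F K : Type*} [Field F] [Field K] [Fintype F] [Fintype K]
    (h : Fintype.card F = Fintype.card K) (e : ℕ) : Nonempty (twistedG2 F e ≃* twistedG2 K e) :=
  ⟨twistedG2Congr (FiniteField.ringEquivOfCardEq h) e⟩

end Cfsg.Agent.H362.ReeField

private theorem dce_294b52f0b2ae : _root_.True := by
  try have : _root_.True := by simp only [_root_.Cfsg.Lie.ChevalleyDatum.negWord.eq_1]
  try have : _root_.True := by simp only [_root_.Cfsg.Lie.reeWordU.eq_1]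
  try have : _root_.True := by simp only [_root_.Cfsg.Lie.reeWordV.eq_1]
  exact _root_.True.intro
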