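import Mathlib
import Cfsg.Agent.H418.Nse
import Cfsg.Agent.H362.ReeCounts2
import Cfsg.Agent.H362.IsoGroup
import Cfsg.Agent.H366.AlmostSimple
import Cfsg.Agent.S0205
import Cfsg.Agent.H495.NotFour
import Cfsg.Agent.H478.WalterAll
import Cfsg.Agent.S0483
import Cfsg.Agent.SmallSimple.PSLTwoPart
import Cfsg.Agent.ClassicalGeometry.SLTwoFour
import Cfsg.Agent.SporadicB.J1.Main
import Cfsg.Agent.H363.PSL2Spec
import Cfsg.Agent.H362.ReeField
import Cfsg.Agent.LieRecognition.ReeFinal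
import Cfsg.Agent.LieRecognition.ReeTorusTw
import Cfsg.Agent.S1116
import Cfsg.Agent.FastGrp
import Cfsg.Agent.Prune
set_option linter.all false
prune_inst 0x7fbcfff8afbcbfdfffff7e7ffff9dffe1bd4dfffffdffb43ffecebff8fff838e3be5fbaf1de0d8ff0ef7e2b630b87853f97ece7fec6bdc7ffffd5ff45ffbee5ff7ffbf8d11d3b0240f746ffffbf17fca7f3fffffffffffffffffffffffffffbeffffffffffff
open scoped Cfsg.Agent.FastGrp

-- part: H362/ReeNum
section
/-!
# Arithmetic of the numbers of elements of given order of the small Ree groups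
-/

set_option autoImplicit false

namespace Cfsg.Agent.H362.ReeNum

/-- the arithmetic context: `s`, `t` are the orders `q - r + 1`, `q + r + 1` -/
structure Ctx (q r s t : ℤ) : Prop where
  q27 : 27 ≤ q
  r0 : 0 < r
  three : 3 ∣ q
  rr : r ^ 2 = 3 * q
  hs : s = q - r + 1
  ht : t = q + r + 1

def vb (q : ℤ) : ℤ := q ^ 2 * (q ^ 2 - q + 1)
def vc (q : ℤ) : ℤ := (q ^ 3 + 1) * (q ^ 2 - 1)
def vd (q : ℤ) : ℤ := q ^ 2 * (q ^ 3 + 1) * (q - 1)
def vE (q : ℤ) : ℤ := q ^ 3 * (q ^ 3 + 1)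
def vF (q : ℤ) : ℤ := q ^ 3 * (q - 1) * (q ^ 2 - q + 1)
/-- used with `t = q + r + 1` or `t = q - r + 1` -/
def vH (q t : ℤ) : ℤ := q ^ 3 * (q ^ 2 - 1) * t
/-- the order -/
def vG (q : ℤ) : ℤ := q ^ 3 * (q ^ 3 + 1) * (q - 1)

section

variable {q r s t : ℤ} (X : Ctx q r s t)

include X

theorem st : s * t = q ^ 2 - q + 1 := by
  rw [X.hs, X.ht]
  linear_combination - X.rr

theorem q1_coprime : IsCoprime (q - 1) 3 := by
  obtain ⟨k, hk⟩ := X.three
  exact ⟨-1, k, by rw [hk]; ring⟩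

theorem q2_coprime : IsCoprime (q + 1) 3 := by
  obtain ⟨k, hk⟩ := X.three
  exact ⟨1, -k, by rw [hk]; ring⟩

theorem three_dvd_r : (3 : ℤ) ∣ r := by
  have h1 : (3 : ℤ) ∣ r ^ 2 := ⟨q, X.rr⟩
  exact Int.prime_three.dvd_of_dvd_pow h1

theorem s_coprime : IsCoprime s 3 := by
  obtain ⟨k, hk⟩ := X.three
  obtain ⟨l, hl⟩ := three_dvd_r X
  exact ⟨1, l - k, by rw [X.hs]; linear_combination hk - hl⟩

theorem t_coprime : IsCoprime t 3 := by
  obtain ⟨k, hk⟩ := X.three
  obtain ⟨l, hl⟩ := three_dvd_r X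
  exact ⟨1, -l - k, by rw [X.ht]; linear_combination hk + hl⟩

/-- the main equation -/
def Eqn (q s t M ε a b A B C D : ℤ) : Prop :=
  3 * M = 3 + 3 * ε * vb q + 3 * a * vc q + 3 * b * vd q + 3 * A * vE q + B * vF q + C * vH q t + D * vH q s

theorem mod_q1 {M a b A B C D : ℤ} (h : Eqn q s t M 1 a b A B C D) (hM : (q - 1) ∣ M) :
    (q - 1) ∣ 2 * (A + 1) := by
  obtain ⟨k, rfl⟩ := hM
  have h1 : (q - 1) ∣ 3 * (2 * (A + 1)) := by
    refine ⟨3 * k - 3 * (q ^ 3 + q + 1) - 3 * a * ((q ^ 3 + 1) * (q + 1)) - 3 * b * (q ^ 2 * (q ^ 3 + 1))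
      - 3 * A * (q ^ 5 + q ^ 4 + q ^ 3 + 2 * q ^ 2 + 2 * q + 2) - B * (q ^ 3 * (q ^ 2 - q + 1))
      - C * (q ^ 3 * (q + 1) * t) - D * (q ^ 3 * (q + 1) * s), ?_⟩
    unfold Eqn vb vc vd vE vF vH at h
    linear_combination (-1 : ℤ) * h
  exact (q1_coprime X).dvd_of_dvd_mul_left h1

theorem mod_q2 {M a b A B C D : ℤ} (h : Eqn q s t M 1 a b A B C D) (hM : (q + 1) ∣ M) :
    (q + 1) ∣ 2 * (B + 2) := by
  obtain ⟨k, rfl⟩ := hM
  have h1 : (q + 1) ∣ 3 * (2 * (B + 2)) := by
    refine ⟨3 * k - 3 * (q ^ 3 - 2 * q ^ 2 + 3 * q - 3) - 3 * a * ((q ^ 3 + 1) * (q - 1))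
      - 3 * b * (q ^ 2 * (q ^ 2 - q + 1) * (q - 1))
      - 3 * A * (q ^ 3 * (q ^ 2 - q + 1))
      - B * (q ^ 5 - 3 * q ^ 4 + 5 * q ^ 3 - 6 * q ^ 2 + 6 * q - 6)
      - C * (q ^ 3 * (q - 1) * t) - D * (q ^ 3 * (q - 1) * s), ?_⟩
    unfold Eqn vb vc vd vE vF vH at h
    linear_combination (-1 : ℤ) * h
  exact (q2_coprime X).dvd_of_dvd_mul_left h1

theorem H1_eq : ∃ w, vH q t = 6 + s * w := by
  refine ⟨q ^ 3 * (q ^ 2 - 1) + 2 * r * (q ^ 2 - 1) * (q + 1) * t - 2 * r * t - 2 * r - 6, ?_⟩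
  unfold vH
  rw [X.ht, X.hs]
  have h := X.rr
  linear_combination ((2 * r * (q ^ 2 - 1) * (q + 1)) - 2 * r - 2) * h

theorem H2_eq : ∃ w, vH q s = 6 + t * w := by
  refine ⟨q ^ 3 * (q ^ 2 - 1) - 2 * r * (q ^ 2 - 1) * (q + 1) * s + 2 * r * s + 2 * r - 6, ?_⟩
  unfold vH
  rw [X.ht, X.hs]
  have h := X.rr
  linear_combination (-(2 * r * (q ^ 2 - 1) * (q + 1)) + 2 * r - 2) * h

theorem mod_s {M ε a b A B C D : ℤ} (h : Eqn q s t M ε a b A B C D) (hM : s ∣ M) :
    s ∣ 2 * C + 1 := by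
  obtain ⟨k, rfl⟩ := hM
  obtain ⟨w, hw⟩ := H1_eq X
  have hst := st X
  have h1 : s ∣ 3 * (2 * C + 1) := by
    refine ⟨3 * k - 3 * ε * (q ^ 2 * t) - 3 * a * ((q + 1) * t * (q ^ 2 - 1)) - 3 * b * (q ^ 2 * (q + 1) * t * (q - 1))
      - 3 * A * (q ^ 3 * (q + 1) * t) - B * (q ^ 3 * (q - 1) * t) - C * w - D * (q ^ 3 * (q ^ 2 - 1)), ?_⟩
    unfold Eqn at h
    rw [hw] at h
    unfold vb vc vd vE vF vH at h
    linear_combination (-1 : ℤ) * h + (3 * ε * q ^ 2 + 3 * a * ((q + 1) * (q ^ 2 - 1)) + 3 * b * (q ^ 2 * (q + 1) * (q - 1))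
      + 3 * A * (q ^ 3 * (q + 1)) + B * (q ^ 3 * (q - 1))) * hst
  exact (s_coprime X).dvd_of_dvd_mul_left h1

theorem mod_t {M ε a b A B C D : ℤ} (h : Eqn q s t M ε a b A B C D) (hM : t ∣ M) :
    t ∣ 2 * D + 1 := by
  obtain ⟨k, rfl⟩ := hM
  obtain ⟨w, hw⟩ := H2_eq X
  have hst := st X
  have h1 : t ∣ 3 * (2 * D + 1) := by
    refine ⟨3 * k - 3 * ε * (q ^ 2 * s) - 3 * a * ((q + 1) * s * (q ^ 2 - 1)) - 3 * b * (q ^ 2 * (q + 1) * s * (q - 1))
      - 3 * A * (q ^ 3 * (q + 1) * s) - B * (q ^ 3 * (q - 1) * s) - D * w - C * (q ^ 3 * (q ^ 2 - 1)), ?_⟩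
    unfold Eqn at h
    rw [hw] at h
    unfold vb vc vd vE vF vH at h
    linear_combination (-1 : ℤ) * h + (3 * ε * q ^ 2 + 3 * a * ((q + 1) * (q ^ 2 - 1)) + 3 * b * (q ^ 2 * (q + 1) * (q - 1))
      + 3 * A * (q ^ 3 * (q + 1)) + B * (q ^ 3 * (q - 1))) * hst
  exact (t_coprime X).dvd_of_dvd_mul_left h1

theorem mod_cube {M a b A B C D : ℤ} (h : Eqn q s t M 1 a b A B C D) (hM : q ^ 3 ∣ M)
    (ha0 : 0 ≤ a) (ha : a ≤ 1) (hb0 : 0 ≤ b) (hb : b ≤ 2) : a = 1 ∧ b = 2 := by
  obtain ⟨k, rfl⟩ := hM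
  have h27 := X.q27
  have h1 : q ^ 3 ∣ 3 * (1 - a + q ^ 2 * (1 + a - b)) := by
    refine ⟨3 * k - 3 * (q - 1) - 3 * a * (q ^ 2 - 1) - 3 * b * (q ^ 3 - q ^ 2 + 1) - 3 * A * (q ^ 3 + 1)
      - B * ((q - 1) * (q ^ 2 - q + 1)) - C * ((q ^ 2 - 1) * t) - D * ((q ^ 2 - 1) * s), ?_⟩
    unfold Eqn vb vc vd vE vF vH at h
    linear_combination (-1 : ℤ) * h
  have ha1 : a = 1 := by
    by_contra hne
    have ha0' : a = 0 := by omega
    subst ha0'
    obtain ⟨l, hl⟩ := h1
    have h2 : q ∣ 3 := ⟨q ^ 2 * l - 3 * q * (1 - b), by linear_combination hl⟩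
    have := Int.le_of_dvd (by norm_num) h2
    omega
  refine ⟨ha1, ?_⟩
  subst ha1
  obtain ⟨l, hl⟩ := h1
  have h2 : q * l = 3 * (2 - b) := by
    have hq : q ^ 2 ≠ 0 := by positivity
    apply mul_left_cancel₀ hq
    linear_combination -hl
  have h3 : q ∣ 3 * (2 - b) := ⟨l, h2.symm⟩
  by_contra hne
  have h4 := Int.le_of_dvd (by omega) h3
  omega

/-- the equation of the small Ree groups -/
theorem identity : 2 * (3 * vG q) = 2 * 3 + 2 * 3 * vb q + 2 * 3 * vc q + 2 * 3 * 2 * vd q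
    + 3 * (q - 3) * vE q + (q - 3) * vF q + (s - 1) * vH q t + (t - 1) * vH q s := by
  have hst := st X
  have hh : s + t = 2 * (q + 1) := by rw [X.hs, X.ht]; ring
  unfold vG vb vc vd vE vF vH
  linear_combination (-2 * q ^ 3 * (q ^ 2 - 1)) * hst + q ^ 3 * (q ^ 2 - 1) * hh

end

section

variable {q r s t : ℤ} (X : Ctx q r s t)

include X

theorem bound_q1 {A : ℤ} (h : (q - 1) ∣ 2 * (A + 1)) (hA : 0 ≤ A) : q - 3 ≤ 2 * A := by
  have h27 := X.q27
  have := Int.le_of_dvd (by omega) h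
  omega

theorem bound_q2 {B : ℤ} (h : (q + 1) ∣ 2 * (B + 2)) (hB : 0 ≤ B) : q - 3 ≤ 2 * B := by
  have h27 := X.q27
  have := Int.le_of_dvd (by omega) h
  omega

omit X in
theorem bound_s {C s : ℤ} (h : s ∣ 2 * C + 1) (hC : 0 ≤ C) : s - 1 ≤ 2 * C := by
  have := Int.le_of_dvd (by omega) h
  omega

theorem s_pos : 0 < s := by
  have h1 := X.rr
  have h2 := X.hs
  have h27 := X.q27
  have h0 := X.r0
  rw [h2]
  nlinarith only [h1, h27, sq_nonneg (r - q)]

theorem t_pos : 0 < t := by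
  have h2 := X.ht
  have h27 := X.q27
  have h0 := X.r0
  omega

/-- **Uniqueness.** -/
theorem unique {a b A B C D : ℤ} (h : Eqn q s t (vG q) 1 a b A B C D) (ha : 1 ≤ a) (hb : 1 ≤ b)
    (hA0 : 0 ≤ A) (hB0 : 0 ≤ B) (hC0 : 0 ≤ C) (hD0 : 0 ≤ D) :
    a = 1 ∧ b = 2 ∧ 2 * A = q - 3 ∧ 2 * B = q - 3 ∧ 2 * C = s - 1 ∧ 2 * D = t - 1 := by
  have h27 := X.q27
  have hsp := s_pos X
  have htp := t_pos X
  have hst := st X
  have e1 : (q - 1) ∣ vG q := ⟨q ^ 3 * (q ^ 3 + 1), by unfold vG; ring⟩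
  have e2 : (q + 1) ∣ vG q := ⟨q ^ 3 * (q ^ 2 - q + 1) * (q - 1), by unfold vG; ring⟩
  have e3 : s ∣ vG q := ⟨q ^ 3 * (q + 1) * t * (q - 1), by
    unfold vG; linear_combination (- q ^ 3 * (q + 1) * (q - 1)) * hst⟩
  have e4 : t ∣ vG q := ⟨q ^ 3 * (q + 1) * s * (q - 1), by
    unfold vG; linear_combination (- q ^ 3 * (q + 1) * (q - 1)) * hst⟩
  have m1 := mod_q1 X h e1
  have m2 := mod_q2 X h e2
  have m3 := mod_s X h e3
  have m4 := mod_t X h e4
  have b1 := bound_q1 X m1 hA0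
  have b2 := bound_q2 X m2 hB0
  have b3 := bound_s m3 hC0
  have b4 := bound_s m4 hD0
  have hid := identity X
  unfold Eqn at h
  -- values
  have pq : 0 < q := by omega
  have pvc : 0 < vc q := by unfold vc; exact mul_pos (by positivity) (by nlinarith only [h27])
  have pvd : 0 < vd q := by unfold vd; exact mul_pos (by positivity) (by omega)
  have pE : 0 < vE q := by unfold vE; positivity
  have pQ : 0 < q ^ 2 - q + 1 := by nlinarith only []
  have pF : 0 < vF q := by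
    unfold vF; exact mul_pos (mul_pos (by positivity) (by omega)) pQ
  have pH1 : 0 < vH q t := by
    unfold vH; exact mul_pos (mul_pos (by positivity) (by linarith only [h27, pQ])) htp
  have pH2 : 0 < vH q s := by
    unfold vH; exact mul_pos (mul_pos (by positivity) (by linarith only [h27, pQ])) hsp
  have pG : q * vd q = vG q := by unfold vd vG; ring
  have hF : (q + 1) * vF q = vG q := by unfold vF vG; ring
  have hH1 : s * vH q t = vG q := by
    unfold vH vG; linear_combination (q ^ 3 * (q ^ 2 - 1)) * hst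
  have hH2 : t * vH q s = vG q := by
    unfold vH vG; linear_combination (q ^ 3 * (q ^ 2 - 1)) * hst
  have hEd : vd q < vE q := by
    unfold vd vE
    have : q ^ 3 * (q ^ 3 + 1) - q ^ 2 * (q ^ 3 + 1) * (q - 1) = q ^ 2 * (q ^ 3 + 1) := by ring
    have h5 : 0 < q ^ 2 * (q ^ 3 + 1) := by positivity
    linarith only [h5]
  -- the excess
  have hex : 6 * (a - 1) * vc q + 6 * (b - 1) * vd q + 3 * (2 * A - (q - 3)) * vE q
      + (2 * B - (q - 3)) * vF q + (2 * C - (s - 1)) * vH q t + (2 * D - (t - 1)) * vH q s = 6 * vd q := by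
    linear_combination hid - 2 * h
  have n1 : 0 ≤ 6 * (a - 1) * vc q := mul_nonneg (by omega) pvc.le
  have n2 : 0 ≤ 6 * (b - 1) * vd q := mul_nonneg (by omega) pvd.le
  have n3 : 0 ≤ 3 * (2 * A - (q - 3)) * vE q := mul_nonneg (by omega) pE.le
  have n4 : 0 ≤ (2 * B - (q - 3)) * vF q := mul_nonneg (by omega) pF.le
  have n5 : 0 ≤ (2 * C - (s - 1)) * vH q t := mul_nonneg (by omega) pH1.le
  have n6 : 0 ≤ (2 * D - (t - 1)) * vH q s := mul_nonneg (by omega) pH2.le
  have hGd : 27 * vd q ≤ vG q := by rw [← pG]; exact mul_le_mul_of_nonneg_right h27 pvd.le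
  have k3 : 2 * A = q - 3 := by
    by_contra hne
    have h5 : 1 ≤ 2 * A - (q - 3) := by (clear * - b1 hne; omega)
    obtain ⟨l, hl⟩ := m1
    have h6 : 2 * A - (q - 3) = (q - 1) * (l - 1) := by linear_combination hl
    have h7 : 0 < l - 1 := by
      by_contra h8
      have h9 : (q - 1) * (l - 1) ≤ 0 := mul_nonpos_of_nonneg_of_nonpos (by omega) (by omega)
      omega
    have h8 : q - 1 ≤ 2 * A - (q - 3) := by
      rw [h6]; nlinarith only [h27, h7]
    have h9 : 3 * (q - 1) * vE q ≤ 3 * (2 * A - (q - 3)) * vE q :=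
      mul_le_mul_of_nonneg_right (by (clear * - h8; omega)) pE.le
    have h10 : 3 * (q - 1) * vE q = 3 * vG q := by unfold vE vG; ring
    linarith only [h, hid, pvd, n1, n2, n4, n5, n6, hGd, h9, h10]
  have k4 : 2 * B = q - 3 := by
    by_contra hne
    have h5 : 1 ≤ 2 * B - (q - 3) := by (clear * - b2 hne; omega)
    obtain ⟨l, hl⟩ := m2
    have h6 : 2 * B - (q - 3) = (q + 1) * (l - 1) := by linear_combination hl
    have h7 : 0 < l - 1 := by
      by_contra h8
      have h9 : (q + 1) * (l - 1) ≤ 0 := mul_nonpos_of_nonneg_of_nonpos (by omega) (by omega)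
      omega
    have h8 : q + 1 ≤ 2 * B - (q - 3) := by
      rw [h6]; nlinarith only [h27, h7]
    have h9 : (q + 1) * vF q ≤ (2 * B - (q - 3)) * vF q :=
      mul_le_mul_of_nonneg_right (by omega) pF.le
    linarith only [h, hid, pvd, hF, n1, n2, n3, n5, n6, hGd, h9]
  have k5 : 2 * C = s - 1 := by
    by_contra hne
    have h5 : 1 ≤ 2 * C - (s - 1) := by omega
    obtain ⟨l, hl⟩ := m3
    have h6 : 2 * C - (s - 1) = s * (l - 1) := by linear_combination hl
    have h7 : 0 < l - 1 := by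
      by_contra h8
      have h9 : s * (l - 1) ≤ 0 := mul_nonpos_of_nonneg_of_nonpos (by omega) (by omega)
      omega
    have h8 : s ≤ 2 * C - (s - 1) := by
      rw [h6]; nlinarith only [hsp, h7]
    have h9 : s * vH q t ≤ (2 * C - (s - 1)) * vH q t :=
      mul_le_mul_of_nonneg_right (by omega) pH1.le
    linarith only [h, hid, pvd, hH1, n1, n2, n3, n4, n6, hGd, h9]
  have k6 : 2 * D = t - 1 := by
    by_contra hne
    have h5 : 1 ≤ 2 * D - (t - 1) := by omega
    obtain ⟨l, hl⟩ := m4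
    have h6 : 2 * D - (t - 1) = t * (l - 1) := by linear_combination hl
    have h7 : 0 < l - 1 := by
      by_contra h8
      have h9 : t * (l - 1) ≤ 0 := mul_nonpos_of_nonneg_of_nonpos (by omega) (by omega)
      omega
    have h8 : t ≤ 2 * D - (t - 1) := by
      rw [h6]; nlinarith only [htp, h7]
    have h9 : t * vH q s ≤ (2 * D - (t - 1)) * vH q s :=
      mul_le_mul_of_nonneg_right (by omega) pH2.le
    linarith only [h, hid, pvd, hH2, n1, n2, n3, n4, n5, hGd, h9]
  have hex2 : (a - 1) * vc q + (b - 1) * vd q = vd q := by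
    rw [k3, k4, k5, k6] at hex
    linarith only [hex]
  have kb : b = 2 := by
    by_contra hne
    have hb1 : b = 1 := by
      by_contra hne2
      have h5 : 2 * vd q ≤ (b - 1) * vd q := mul_le_mul_of_nonneg_right (by omega) pvd.le
      have h6 : 0 ≤ (a - 1) * vc q := mul_nonneg (by omega) pvc.le
      linarith only [h, hid, pvd, n1, n3, n4, n5, n6, h5]
    subst hb1
    have h5 : (a - 1) * (q + 1) = q ^ 2 := by
      have h6 : (q ^ 3 + 1) * (q - 1) ≠ 0 := by
        apply mul_ne_zero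
        · positivity
        · (clear * - h27; omega)
      apply mul_left_cancel₀ h6
      unfold vc vd at hex2
      linear_combination hex2
    have h7 : (q + 1) ∣ 1 := ⟨(a - 1) - (q - 1), by linear_combination -h5⟩
    have := Int.le_of_dvd (by norm_num) h7
    (clear * - h27 this; omega)
  refine ⟨?_, kb, k3, k4, k5, k6⟩
  subst kb
  have h5 : (a - 1) * vc q = 0 := by linarith only [hid, n1, n3, n4, n5, n6, h]
  rcases mul_eq_zero.1 h5 with h6 | h6
  · omega
  · omega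

end

end Cfsg.Agent.H362.ReeNum
end

-- part: H362/NseArith
section
/-!
# Groups with the order and the numbers of elements of given order of a small Ree group

The primes dividing `s = q - r + 1` are not joined to other primes in the prime graph; the same for `t = q + r + 1`.
-/

set_option autoImplicit false
set_option linter.unusedSectionVars false

namespace Cfsg.Agent.H362.NseArith

open Cfsg.Agent.H418.Nse Cfsg.Agent.H418.Frob
open Cfsg.Agent.H362.ReeNum

universe u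

/-- the values of the numbers of elements of given order -/
def Typ (q s t : ℤ) (c : ℤ) : Prop :=
  c = 1 ∨ c = vb q ∨ c = vc q ∨ c = vd q ∨ (∃ k : ℕ, c = k * vE q) ∨ (∃ k : ℕ, 3 * c = k * vF q) ∨
    (∃ k : ℕ, 3 * c = k * vH q t) ∨ (∃ k : ℕ, 3 * c = k * vH q s)

section regular

variable {G : Type u} [Group G] [Finite G]

/-- the number of elements of order prime to `p` -/
theorem dvd_sum_regular {p d : ℕ} (hp : p.Prime) (hpd : ¬ p ∣ d) (hd : d ∣ Nat.card G) :
    d ∣ ∑ n ∈ (Nat.card G).divisors.filter (fun n => ¬ p ∣ n), co G n := by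
  have h0 : Nat.card G ≠ 0 := Nat.card_pos.ne'
  have h1 : (Nat.card G).divisors.filter (fun n => ¬ p ∣ n) = (ordCompl[p] (Nat.card G)).divisors := by
    ext n
    rw [Finset.mem_filter, Nat.mem_divisors, Nat.mem_divisors]
    constructor
    · rintro ⟨⟨h2, -⟩, h3⟩
      refine ⟨?_, (Nat.ordCompl_pos p h0).ne'⟩
      have h4 : Nat.Coprime n (p ^ (Nat.card G).factorization p) :=
        (Nat.Coprime.pow_left _ ((Nat.Prime.coprime_iff_not_dvd hp).2 h3)).symm
      apply h4.dvd_of_dvd_mul_left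
      rw [Nat.ordProj_mul_ordCompl_eq_self]
      exact h2
    · rintro ⟨h2, -⟩
      exact ⟨⟨h2.trans (Nat.ordCompl_dvd _ _), h0⟩, fun h3 => Nat.not_dvd_ordCompl hp h0 (h3.trans h2)⟩
  rw [h1, ← cnt_eq_sum G (Nat.ordCompl_pos p h0).ne']
  refine dvd_trans ?_ (frobenius_dvd _ (Nat.ordCompl_dvd _ _))
  have h4 : Nat.Coprime d (p ^ (Nat.card G).factorization p) :=
    (Nat.Coprime.pow_left _ ((Nat.Prime.coprime_iff_not_dvd hp).2 hpd)).symm
  apply h4.dvd_of_dvd_mul_left
  rw [Nat.ordProj_mul_ordCompl_eq_self]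
  exact hd

theorem sum_all : ∑ n ∈ (Nat.card G).divisors, co G n = Nat.card G := by
  rw [← cnt_eq_sum G Nat.card_pos.ne']
  unfold cnt
  exact Nat.card_congr (Equiv.subtypeUnivEquiv fun x => pow_card_eq_one')

end regular

section primes

variable {q r s t : ℤ} (X : Ctx q r s t)

include X

theorem odd_r (hq : Odd q) : Odd r := by
  have h1 : Odd (r ^ 2) := by rw [X.rr]; exact Odd.mul (by decide) hq
  by_contra h
  rw [Int.not_odd_iff_even] at h
  have h2 : Even (r ^ 2) := h.pow_of_ne_zero two_ne_zero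
  exact (Int.not_even_iff_odd.2 h1) h2

theorem odd_s (hq : Odd q) : Odd s := by
  have h1 := odd_r X hq
  rw [X.hs]
  exact (hq.sub_odd h1).add_odd odd_one

theorem odd_t (hq : Odd q) : Odd t := by
  have h1 := odd_r X hq
  rw [X.ht]
  exact (hq.add_odd h1).add_odd odd_one

theorem prime_s (hq : Odd q) {p : ℤ} (hp : Prime p) (h : p ∣ s * t) :
    ¬ p ∣ 2 ∧ ¬ p ∣ 3 ∧ ¬ p ∣ q ∧ ¬ p ∣ q - 1 ∧ ¬ p ∣ q + 1 := by
  have h3 : ¬ p ∣ 3 := by
    intro h3
    rcases hp.dvd_or_dvd h with h4 | h4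
    · obtain ⟨a, b, hab⟩ := s_coprime X
      apply hp.not_isUnit
      rw [isUnit_iff_dvd_one, ← hab]
      exact dvd_add (h4.mul_left _) (h3.mul_left _)
    · obtain ⟨a, b, hab⟩ := t_coprime X
      apply hp.not_isUnit
      rw [isUnit_iff_dvd_one, ← hab]
      exact dvd_add (h4.mul_left _) (h3.mul_left _)
  have h2 : ¬ p ∣ 2 := by
    intro h2
    have h4 : Odd (s * t) := (odd_s X hq).mul (odd_t X hq)
    obtain ⟨l, hl⟩ := h4
    rw [hl] at h
    apply hp.not_isUnit
    rw [isUnit_iff_dvd_one]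
    exact (dvd_add_right (h2.mul_right l)).1 h
  rw [st X] at h
  refine ⟨h2, h3, ?_, ?_, ?_⟩
  · intro h4
    apply hp.not_isUnit
    rw [isUnit_iff_dvd_one]
    have : (1 : ℤ) = (q ^ 2 - q + 1) - q * (q - 1) := by ring
    rw [this]
    exact dvd_sub h (h4.mul_right _)
  · intro h4
    apply hp.not_isUnit
    rw [isUnit_iff_dvd_one]
    have : (1 : ℤ) = (q ^ 2 - q + 1) - (q - 1) * q := by ring
    rw [this]
    exact dvd_sub h (h4.mul_right _)
  · intro h4
    apply h3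
    have : (3 : ℤ) = (q ^ 2 - q + 1) - (q + 1) * (q - 2) := by ring
    rw [this]
    exact dvd_sub h (h4.mul_right _)

theorem prime_s_t (hq : Odd q) {p : ℤ} (hp : Prime p) (h1 : p ∣ s) (h2 : p ∣ t) : False := by
  obtain ⟨k2, k3, kq, -, -⟩ := prime_s X hq hp (h1.mul_right t)
  have h3 : p ∣ 2 * r := by
    have : 2 * r = t - s := by rw [X.ht, X.hs]; ring
    rw [this]
    exact dvd_sub h2 h1
  rcases hp.dvd_or_dvd h3 with h4 | h4
  · exact k2 h4
  · have h5 : p ∣ 3 * q := by rw [← X.rr, pow_two]; exact h4.mul_right r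
    rcases hp.dvd_or_dvd h5 with h6 | h6
    · exact k3 h6
    · exact kq h6

end primes

section main

variable {G : Type u} [Group G] [Finite G] {q r s t : ℤ}

theorem vals_pos (X : Ctx q r s t) :
    0 < vc q ∧ 0 < vd q ∧ 0 < vE q ∧ 0 < vF q ∧ 0 < vH q t ∧ 0 < vH q s := by
  have h27 := X.q27
  have hsp := s_pos X
  have htp := t_pos X
  have pq : 0 < q := by omega
  have pQ : 0 < q ^ 2 - q + 1 := by nlinarith
  refine ⟨?_, ?_, ?_, ?_, ?_, ?_⟩
  · unfold vc; exact mul_pos (by positivity) (by linarith only [h27, pQ])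
  · unfold vd; exact mul_pos (by positivity) (by omega)
  · unfold vE; positivity
  · unfold vF; exact mul_pos (mul_pos (by positivity) (by omega)) pQ
  · unfold vH; exact mul_pos (mul_pos (by positivity) (by linarith only [h27, pQ])) htp
  · unfold vH; exact mul_pos (mul_pos (by positivity) (by linarith only [h27, pQ])) hsp

theorem vb_lt (X : Ctx q r s t) : 1 < vb q ∧ vb q < vc q ∧ vc q < vd q := by
  have h27 := X.q27
  have pq : 0 < q := by omega
  refine ⟨?_, ?_, ?_⟩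
  · unfold vb
    nlinarith only [h27, mul_pos pq pq, mul_pos (mul_pos pq pq) pq]
  · unfold vb vc
    have h1 : (q ^ 3 + 1) * (q ^ 2 - 1) - q ^ 2 * (q ^ 2 - q + 1) = q ^ 4 * (q - 1) - 1 := by ring
    have h2 : 1 ≤ q ^ 4 := by
      have : 0 < q ^ 4 := by positivity
      omega
    nlinarith only [h27, h2]
  · unfold vc vd
    have h1 : q ^ 2 * (q ^ 3 + 1) * (q - 1) - (q ^ 3 + 1) * (q ^ 2 - 1) =
      (q ^ 3 + 1) * ((q - 1) * (q ^ 2 - q - 1)) := by ring
    have h2 : 0 < (q ^ 3 + 1) * ((q - 1) * (q ^ 2 - q - 1)) :=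
      mul_pos (by positivity) (mul_pos (by omega) (by nlinarith only [h27]))
    omega

theorem co_two (X : Ctx q r s t) (hq : Odd q) (hvb : ∃ n, (co G n : ℤ) = vb q) :
    (co G 2 : ℤ) = vb q := by
  obtain ⟨n, hn⟩ := hvb
  have hodd : Odd (vb q) := by
    unfold vb
    have h1 : Odd (q ^ 2 - q + 1) := (hq.pow.sub_odd hq).add_odd odd_one
    exact hq.pow.mul h1
  have h1 : Odd (co G n) := by
    have h2 : Odd (co G n : ℤ) := by rw [hn]; exact hodd
    exact_mod_cast h2
  rcases le_two_of_odd G h1 with rfl | rfl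
  · rw [co_one] at hn
    have := (vb_lt X).1
    rw [← hn] at this
    norm_num at this
  · exact hn

theorem exists_coeff (X : Ctx q r s t) (hq : Odd q)
    (hT : ∀ n, co G n ≠ 0 → Typ q s t (co G n)) (h2 : (co G 2 : ℤ) = vb q) (n : ℕ) :
    ∃ a b A B C D : ℕ,
      3 * (co G n : ℤ) = 3 * (if n = 1 then 1 else 0) + 3 * (if n = 2 then 1 else 0) * vb q + 3 * a * vc q +
        3 * b * vd q + 3 * A * vE q + B * vF q + C * vH q t + D * vH q s ∧
        ((co G n : ℤ) = vc q → a = 1) ∧ ((co G n : ℤ) = vd q → b = 1) := by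
  obtain ⟨l1, l2, l3⟩ := vb_lt X
  have hoddb : Odd (vb q) := by
    unfold vb
    have h1 : Odd (q ^ 2 - q + 1) := (hq.pow.sub_odd hq).add_odd odd_one
    exact hq.pow.mul h1
  by_cases h1n : n = 1
  · subst h1n
    refine ⟨0, 0, 0, 0, 0, 0, ?_, ?_, ?_⟩
    · rw [co_one]; norm_num
    · rw [co_one]; intro h; push_cast at h; omega
    · rw [co_one]; intro h; push_cast at h; omega
  by_cases h2n : n = 2
  · subst h2n
    refine ⟨0, 0, 0, 0, 0, 0, ?_, ?_, ?_⟩
    · rw [h2]; norm_num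
    · rw [h2]; intro h; omega
    · rw [h2]; intro h; omega
  have hev : ¬ Odd (co G n) := by
    intro h
    rcases le_two_of_odd G h with h | h
    · exact h1n h
    · exact h2n h
  have hev' : ¬ Odd (co G n : ℤ) := fun h => hev (by exact_mod_cast h)
  rw [if_neg h1n, if_neg h2n]
  by_cases h0 : co G n = 0
  · refine ⟨0, 0, 0, 0, 0, 0, ?_, ?_, ?_⟩
    · rw [h0]; norm_num
    · rw [h0]; intro h; push_cast at h; omega
    · rw [h0]; intro h; push_cast at h; omega
  by_cases hc : (co G n : ℤ) = vc q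
  · refine ⟨1, 0, 0, 0, 0, 0, ?_, fun _ => rfl, ?_⟩
    · rw [hc]; push_cast; ring
    · rw [hc]; intro h; omega
  by_cases hd : (co G n : ℤ) = vd q
  · refine ⟨0, 1, 0, 0, 0, 0, ?_, ?_, fun _ => rfl⟩
    · rw [hd]; push_cast; ring
    · rw [hd]; intro h; omega
  rcases hT n h0 with h | h | h | h | ⟨k, h⟩ | ⟨k, h⟩ | ⟨k, h⟩ | ⟨k, h⟩
  · exact absurd (by rw [h]; exact odd_one) hev'
  · exact absurd (by rw [h]; exact hoddb) hev'
  · exact absurd h hc
  · exact absurd h hd
  · exact ⟨0, 0, k, 0, 0, 0, by rw [h]; push_cast; ring, fun h => absurd h hc, fun h => absurd h hd⟩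
  · exact ⟨0, 0, 0, k, 0, 0, by rw [h]; push_cast; ring, fun h => absurd h hc, fun h => absurd h hd⟩
  · exact ⟨0, 0, 0, 0, k, 0, by rw [h]; push_cast; ring, fun h => absurd h hc, fun h => absurd h hd⟩
  · exact ⟨0, 0, 0, 0, 0, k, by rw [h]; push_cast; ring, fun h => absurd h hc, fun h => absurd h hd⟩

/-- the data of coefficients -/
structure Coeff (G : Type u) [Group G] (q s t : ℤ) (a b A B C D : ℕ → ℕ) : Prop where
  eq : ∀ n, 3 * (co G n : ℤ) = 3 * (if n = 1 then 1 else 0) + 3 * (if n = 2 then 1 else 0) * vb q +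
    3 * (a n : ℤ) * vc q + 3 * (b n : ℤ) * vd q + 3 * (A n : ℤ) * vE q + (B n : ℤ) * vF q +
      (C n : ℤ) * vH q t + (D n : ℤ) * vH q s
  ha : ∀ n, (co G n : ℤ) = vc q → a n = 1
  hb : ∀ n, (co G n : ℤ) = vd q → b n = 1

variable {a b A B C D : ℕ → ℕ}

/-- the summed equation -/
theorem Coeff.sum (Y : Coeff G q s t a b A B C D) (N : Finset ℕ) (h1 : 1 ∈ N) :
    Eqn q s t (∑ n ∈ N, (co G n : ℤ)) (if 2 ∈ N then 1 else 0) (∑ n ∈ N, (a n : ℤ)) (∑ n ∈ N, (b n : ℤ))
      (∑ n ∈ N, (A n : ℤ)) (∑ n ∈ N, (B n : ℤ)) (∑ n ∈ N, (C n : ℤ)) (∑ n ∈ N, (D n : ℤ)) := by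
  unfold Eqn
  have h2 : 3 * ∑ n ∈ N, (co G n : ℤ) = ∑ n ∈ N, (3 * (if n = 1 then 1 else 0) + 3 * (if n = 2 then 1 else 0) * vb q +
    3 * (a n : ℤ) * vc q + 3 * (b n : ℤ) * vd q + 3 * (A n : ℤ) * vE q + (B n : ℤ) * vF q +
      (C n : ℤ) * vH q t + (D n : ℤ) * vH q s) := by
    rw [Finset.mul_sum]
    exact Finset.sum_congr rfl fun n _ => Y.eq n
  rw [h2]
  simp only [Finset.sum_add_distrib, ← Finset.sum_mul, ← Finset.mul_sum, Finset.sum_ite_eq', h1, if_true]
  ring

theorem sum_split (f : ℕ → ℕ) (N : Finset ℕ) (P : ℕ → Prop) [DecidablePred P] :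
    ∑ n ∈ N, (f n : ℤ) = ∑ n ∈ N.filter P, (f n : ℤ) + ∑ n ∈ N.filter (fun n => ¬ P n), (f n : ℤ) :=
  (Finset.sum_filter_add_sum_filter_not N P _).symm

theorem sum_nonneg' (f : ℕ → ℕ) (N : Finset ℕ) : 0 ≤ ∑ n ∈ N, (f n : ℤ) :=
  Finset.sum_nonneg fun _ _ => Int.natCast_nonneg _

theorem eq_zero_of_sum {f : ℕ → ℕ} {N : Finset ℕ} (h : ∑ n ∈ N, (f n : ℤ) ≤ 0) {n : ℕ} (hn : n ∈ N) :
    f n = 0 := by
  have h1 : (f n : ℤ) ≤ ∑ n ∈ N, (f n : ℤ) :=
    Finset.single_le_sum (f := fun n => (f n : ℤ)) (fun _ _ => Int.natCast_nonneg _) hn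
  omega

theorem isolated (X : Ctx q r s t) (hq : Odd q) (hG : (Nat.card G : ℤ) = vG q)
    (hT : ∀ n, co G n ≠ 0 → Typ q s t (co G n)) (hvb : ∃ n, (co G n : ℤ) = vb q)
    (hvc : ∃ n, (co G n : ℤ) = vc q) (hvd : ∃ n, (co G n : ℤ) = vd q) :
    (co G 2 : ℤ) = vb q ∧
      (∀ p p' n : ℕ, p.Prime → p'.Prime → (p : ℤ) ∣ s → ¬ (p' : ℤ) ∣ s → p ∣ n → p' ∣ n → co G n = 0) ∧
      (∀ p p' n : ℕ, p.Prime → p'.Prime → (p : ℤ) ∣ t → ¬ (p' : ℤ) ∣ t → p ∣ n → p' ∣ n → co G n = 0) := by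
  classical
  have h2 := co_two X hq hvb
  refine ⟨h2, ?_⟩
  choose a b A B C D hY ha hb using exists_coeff X hq hT h2
  have Y : Coeff G q s t a b A B C D := ⟨hY, ha, hb⟩
  obtain ⟨l1, l2, l3⟩ := vb_lt X
  obtain ⟨pc, pd, pE, pF, pH1, pH2⟩ := vals_pos X
  have h27 := X.q27
  have hq0 : 0 < q := by omega
  have hst := st X
  set N := (Nat.card G).divisors with hN
  have h0 : Nat.card G ≠ 0 := Nat.card_pos.ne'
  have h1N : 1 ∈ N := Nat.one_mem_divisors.2 h0
  have hmem : ∀ n, co G n ≠ 0 → n ∈ N := by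
    intro n hn
    rw [hN, Nat.mem_divisors]
    refine ⟨?_, h0⟩
    by_contra hcon
    exact hn (co_eq_zero_of_not_dvd G hcon)
  have h2N : 2 ∈ N := hmem 2 (by
    intro h
    rw [h] at h2
    push_cast at h2
    omega)
  -- the full sum
  have hfull := Y.sum N h1N
  have hsum : ∑ n ∈ N, (co G n : ℤ) = vG q := by
    rw [← hG, ← sum_all (G := G)]
    push_cast
    rfl
  rw [hsum, if_pos h2N] at hfull
  have hc1 : 1 ≤ ∑ n ∈ N, (a n : ℤ) := by
    obtain ⟨n, hn⟩ := hvc
    have h3 := Finset.single_le_sum (f := fun n => (a n : ℤ)) (fun n _ => Int.natCast_nonneg _)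
      (hmem n (by intro h; rw [h] at hn; push_cast at hn; omega))
    simp only [ha n hn] at h3
    exact_mod_cast h3
  have hd1 : 1 ≤ ∑ n ∈ N, (b n : ℤ) := by
    obtain ⟨n, hn⟩ := hvd
    have h3 := Finset.single_le_sum (f := fun n => (b n : ℤ)) (fun n _ => Int.natCast_nonneg _)
      (hmem n (by intro h; rw [h] at hn; push_cast at hn; omega))
    simp only [hb n hn] at h3
    exact_mod_cast h3
  obtain ⟨ua, ub, uA, uB, uC, uD⟩ := unique X hfull hc1 hd1 (sum_nonneg' A N) (sum_nonneg' B N) (sum_nonneg' C N)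
    (sum_nonneg' D N)
  -- divisors of the order
  have dG : ∀ (p : ℕ) (d : ℤ), p.Prime → 0 ≤ d → ¬ (p : ℤ) ∣ d → d ∣ vG q →
      d ∣ ∑ n ∈ N.filter (fun n => ¬ p ∣ n), (co G n : ℤ) := by
    intro p d hp hd0 hpd hd
    obtain ⟨e, rfl⟩ := Int.eq_ofNat_of_zero_le hd0
    rw [← hG] at hd
    have h3 : e ∣ Nat.card G := by exact_mod_cast hd
    have h4 := dvd_sum_regular (G := G) hp (fun h => hpd (by exact_mod_cast h)) h3
    have h5 : ((e : ℕ) : ℤ) ∣ ((∑ n ∈ N.filter (fun n => ¬ p ∣ n), co G n : ℕ) : ℤ) := by exact_mod_cast h4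
    rwa [Nat.cast_sum] at h5
  have e1 : (q - 1) ∣ vG q := ⟨q ^ 3 * (q ^ 3 + 1), by unfold vG; ring⟩
  have e2 : (q + 1) ∣ vG q := ⟨q ^ 3 * (q ^ 2 - q + 1) * (q - 1), by unfold vG; ring⟩
  have e3 : s ∣ vG q := ⟨q ^ 3 * (q + 1) * t * (q - 1), by
    unfold vG; linear_combination (- q ^ 3 * (q + 1) * (q - 1)) * hst⟩
  have e4 : t ∣ vG q := ⟨q ^ 3 * (q + 1) * s * (q - 1), by
    unfold vG; linear_combination (- q ^ 3 * (q + 1) * (q - 1)) * hst⟩
  have e5 : q ^ 3 ∣ vG q := ⟨(q ^ 3 + 1) * (q - 1), by unfold vG; ring⟩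
  have hsp := s_pos X
  have htp := t_pos X
  have h1f : ∀ p : ℕ, p.Prime → 1 ∈ N.filter (fun n => ¬ p ∣ n) := by
    intro p hp
    rw [Finset.mem_filter]
    exact ⟨h1N, fun h => hp.one_lt.ne' (Nat.dvd_one.1 h)⟩
  -- the partial sums
  have part : ∀ p : ℕ, p.Prime → (p : ℤ) ∣ s * t →
      ∀ n, p ∣ n → a n = 0 ∧ b n = 0 ∧ A n = 0 ∧ B n = 0 := by
    intro p hp hpst n hpn
    have hpZ : Prime (p : ℤ) := Nat.prime_iff_prime_int.1 hp
    obtain ⟨k2, k3, kq, kq1, kq2⟩ := prime_s X hq hpZ hpst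
    have h2f : 2 ∈ N.filter (fun n => ¬ p ∣ n) := by
      rw [Finset.mem_filter]
      exact ⟨h2N, fun h => k2 (by exact_mod_cast h)⟩
    have hp1 := Y.sum _ (h1f p hp)
    rw [if_pos h2f] at hp1
    have m1 := bound_q1 X (mod_q1 X hp1 (dG p _ hp (by (clear * - h27; omega)) kq1 e1)) (sum_nonneg' _ _)
    have m2 := bound_q2 X (mod_q2 X hp1 (dG p _ hp (by (clear * - h27; omega)) kq2 e2)) (sum_nonneg' _ _)
    have sa := sum_split a N (fun n => p ∣ n)
    have sb := sum_split b N (fun n => p ∣ n)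
    have sA := sum_split A N (fun n => p ∣ n)
    have sB := sum_split B N (fun n => p ∣ n)
    have na := sum_nonneg' a (N.filter fun n => p ∣ n)
    have nb := sum_nonneg' b (N.filter fun n => p ∣ n)
    have m3 := mod_cube X hp1 (dG p _ hp (by positivity) (fun h => kq (hpZ.dvd_of_dvd_pow h)) e5)
      (sum_nonneg' _ _) (by omega) (sum_nonneg' _ _) (by omega)
    have hnN : n ∈ N → n ∈ N.filter (fun n => p ∣ n) := fun h => Finset.mem_filter.2 ⟨h, hpn⟩
    by_cases hn : n ∈ N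
    · exact ⟨eq_zero_of_sum (by omega) (hnN hn), eq_zero_of_sum (by omega) (hnN hn),
        eq_zero_of_sum (by (clear * - uA m1 sA; omega)) (hnN hn), eq_zero_of_sum (by (clear * - uB m2 sB; omega)) (hnN hn)⟩
    · have hco : co G n = 0 := by
        by_contra hcon
        exact hn (hmem n hcon)
      have h3 := Y.eq n
      have hn1 : n ≠ 1 := by rintro rfl; exact hn h1N
      have hn2 : n ≠ 2 := by rintro rfl; exact hn h2N
      rw [hco, if_neg hn1, if_neg hn2] at h3
      have z1 : 0 ≤ 3 * (a n : ℤ) * vc q := by (clear * - pc; positivity)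
      have z2 : 0 ≤ 3 * (b n : ℤ) * vd q := by (clear * - pd; positivity)
      have z3 : 0 ≤ 3 * (A n : ℤ) * vE q := by (clear * - pE; positivity)
      have z4 : 0 ≤ (B n : ℤ) * vF q := by (clear * - pF; positivity)
      have z5 : 0 ≤ (C n : ℤ) * vH q t := by (clear * - pH1; positivity)
      have z6 : 0 ≤ (D n : ℤ) * vH q s := by (clear * - pH2; positivity)
      push_cast at h3
      have y1 : 3 * (a n : ℤ) * vc q = 0 := by linarith only [z1, z2, z3, z4, z5, z6, h3]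
      have y2 : 3 * (b n : ℤ) * vd q = 0 := by linarith only [z1, z2, z3, z4, z5, z6, h3]
      have y3 : 3 * (A n : ℤ) * vE q = 0 := by linarith only [z1, z2, z3, z4, z5, z6, h3]
      have y4 : (B n : ℤ) * vF q = 0 := by linarith only [z1, z2, z3, z4, z5, z6, h3]
      rw [mul_eq_zero] at y1 y2 y3 y4
      refine ⟨?_, ?_, ?_, ?_⟩ <;> omega
  refine ⟨?_, ?_⟩
  · intro p p' n hp hp' hps hp's hpn hp'n
    by_contra hcon
    have hn := hmem n hcon
    have hpZ : Prime (p : ℤ) := Nat.prime_iff_prime_int.1 hp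
    obtain ⟨z1, z2, z3, z4⟩ := part p hp (hps.mul_right t) n hpn
    obtain ⟨k2, -, -, -, -⟩ := prime_s X hq hpZ (hps.mul_right t)
    -- D
    have z5 : D n = 0 := by
      have hp1 := Y.sum _ (h1f p hp)
      have m1 := bound_s (mod_t X hp1 (dG p _ hp htp.le (fun h => prime_s_t X hq hpZ hps h) e4)) (sum_nonneg' _ _)
      have sD := sum_split D N (fun n => p ∣ n)
      exact eq_zero_of_sum (N := N.filter (fun n => p ∣ n)) (by omega) (Finset.mem_filter.2 ⟨hn, hpn⟩)
    have z6 : C n = 0 := by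
      have hp1 := Y.sum _ (h1f p' hp')
      have m1 := bound_s (mod_s X hp1 (dG p' _ hp' hsp.le hp's e3)) (sum_nonneg' _ _)
      have sC := sum_split C N (fun n => p' ∣ n)
      exact eq_zero_of_sum (N := N.filter (fun n => p' ∣ n)) (by omega) (Finset.mem_filter.2 ⟨hn, hp'n⟩)
    have h3 := Y.eq n
    have hn1 : n ≠ 1 := by rintro rfl; exact hp.one_lt.ne' (Nat.dvd_one.1 hpn)
    have hn2 : n ≠ 2 := by rintro rfl; exact k2 (by exact_mod_cast hpn)
    rw [z1, z2, z3, z4, z5, z6, if_neg hn1, if_neg hn2] at h3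
    push_cast at h3
    apply hcon
    have : (co G n : ℤ) = 0 := by linarith only [h3]
    exact_mod_cast this
  · intro p p' n hp hp' hps hp's hpn hp'n
    by_contra hcon
    have hn := hmem n hcon
    have hpZ : Prime (p : ℤ) := Nat.prime_iff_prime_int.1 hp
    obtain ⟨z1, z2, z3, z4⟩ := part p hp (hps.mul_left s) n hpn
    obtain ⟨k2, -, -, -, -⟩ := prime_s X hq hpZ (hps.mul_left s)
    have z5 : C n = 0 := by
      have hp1 := Y.sum _ (h1f p hp)
      have m1 := bound_s (mod_s X hp1 (dG p _ hp hsp.le (fun h => prime_s_t X hq hpZ h hps) e3)) (sum_nonneg' _ _)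
      have sC := sum_split C N (fun n => p ∣ n)
      exact eq_zero_of_sum (N := N.filter (fun n => p ∣ n)) (by omega) (Finset.mem_filter.2 ⟨hn, hpn⟩)
    have z6 : D n = 0 := by
      have hp1 := Y.sum _ (h1f p' hp')
      have m1 := bound_s (mod_t X hp1 (dG p' _ hp' htp.le hp's e4)) (sum_nonneg' _ _)
      have sD := sum_split D N (fun n => p' ∣ n)
      exact eq_zero_of_sum (N := N.filter (fun n => p' ∣ n)) (by omega) (Finset.mem_filter.2 ⟨hn, hp'n⟩)
    have h3 := Y.eq n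
    have hn1 : n ≠ 1 := by rintro rfl; exact hp.one_lt.ne' (Nat.dvd_one.1 hpn)
    have hn2 : n ≠ 2 := by rintro rfl; exact k2 (by exact_mod_cast hpn)
    rw [z1, z2, z3, z4, z5, z6, if_neg hn1, if_neg hn2] at h3
    push_cast at h3
    apply hcon
    have : (co G n : ℤ) = 0 := by linarith only [h3]
    exact_mod_cast this

end main

end Cfsg.Agent.H362.NseArith
end

-- part: H362/ReeVals
section
/-!
# The values of the numbers of elements of given order of the small Ree groups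
-/

set_option autoImplicit false
set_option linter.unusedSectionVars false

namespace Cfsg.Agent.H362.ReeVals

open Subgroup
open Cfsg.Agent.LieRecognition
open Cfsg.Agent.LieRecognition.ReeInv
open Cfsg.Agent.LieRecognition.ReeTorusB
open Cfsg.Agent.LieRecognition.ReeClass
open Cfsg.Agent.H362.TICount
open Cfsg.Agent.H362.ReeNum
open Cfsg.Agent.H362.NseArith (Typ)

/-- the arithmetic context -/
theorem ctx {m : ℕ} (hm : 1 ≤ m) : Ctx ((3 ^ (2 * m + 1) : ℕ) : ℤ) ((3 ^ (m + 1) : ℕ) : ℤ)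
    ((3 ^ (2 * m + 1) - 3 ^ (m + 1) + 1 : ℕ) : ℤ) ((3 ^ (2 * m + 1) + 3 ^ (m + 1) + 1 : ℕ) : ℤ) := by
  have hle : 3 ^ (m + 1) ≤ 3 ^ (2 * m + 1) := Nat.pow_le_pow_right (by norm_num) (by omega)
  refine ⟨?_, ?_, ?_, ?_, ?_, ?_⟩
  · have : 27 ≤ 3 ^ (2 * m + 1) := by
      calc 27 = 3 ^ 3 := by norm_num
        _ ≤ 3 ^ (2 * m + 1) := Nat.pow_le_pow_right (by norm_num) (by omega)
    exact_mod_cast this
  · positivity
  · have : 3 ∣ 3 ^ (2 * m + 1) := dvd_pow_self 3 (by omega)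
    exact_mod_cast this
  · push_cast
    rw [← pow_mul]
    ring
  · rw [Nat.cast_add, Nat.cast_sub hle]; push_cast; ring
  · push_cast; ring

theorem odd_q (m : ℕ) : Odd ((3 ^ (2 * m + 1) : ℕ) : ℤ) := by
  have : Odd (3 ^ (2 * m + 1)) := Odd.pow (by decide)
  exact_mod_cast this

theorem split_two {d h : ℕ} (hd : d ∣ 2 * h) : d ∣ h ∨ ∃ k, k ∣ h ∧ d = 2 * k := by
  rcases Nat.even_or_odd' d with ⟨k, rfl | rfl⟩
  · right
    exact ⟨k, Nat.dvd_of_mul_dvd_mul_left (by norm_num) hd, rfl⟩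
  · left
    have : Nat.Coprime (2 * k + 1) 2 := by
      rw [Nat.coprime_two_right]
      exact ⟨k, rfl⟩
    exact this.dvd_of_dvd_mul_left hd

theorem totient_even' {k : ℕ} (hk : Odd k) (hk1 : k ≠ 1) : ∃ j : ℕ, k.totient = 2 * j := by
  have h3 : 2 < k := by
    rcases hk with ⟨l, rfl⟩
    omega
  obtain ⟨j, hj⟩ := Nat.totient_even h3
  exact ⟨j, by omega⟩

section main

variable {K : Type*} [Field K] [Fintype K] {G : Type*} [Group G] [Finite G] {m : ℕ}
  {U : K → K → K → G} {h : Kˣ → G} {n : G}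

/-- the order over the integers -/
theorem card_int (D : ReeAbs.Data m U h n) (hK : Fintype.card K = 3 ^ (2 * m + 1)) :
    (Nat.card G : ℤ) = vG ((3 ^ (2 * m + 1) : ℕ) : ℤ) := by
  have Dl := ReeSetup.local_of_data D hK
  have h1 : 1 ≤ 3 ^ (2 * m + 1) := Nat.one_le_pow _ _ (by norm_num)
  rw [Dl.card_G]
  unfold vG
  rw [Nat.cast_mul, Nat.cast_mul, Nat.cast_sub h1, Nat.cast_add]
  push_cast
  ring

theorem main (D : ReeAbs.Data m U h n) (hm : 1 ≤ m) (hK : Fintype.card K = 3 ^ (2 * m + 1))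
    (hG : commutator G = ⊤)
    (hcyc : ∀ x : G, x ≠ 1 → orderOf x ∣ (3 ^ (2 * m + 1)) ^ 2 - 3 ^ (2 * m + 1) + 1 →
      IsCyclic (centralizer {x}) ∧
        Nat.card (normalizer (centralizer {x} : Set G)) ∣ 6 * Nat.card (centralizer {x})) :
    (∀ d : ℕ, Nat.card {x : G // orderOf x = d} ≠ 0 →
      Typ ((3 ^ (2 * m + 1) : ℕ) : ℤ) ((3 ^ (2 * m + 1) - 3 ^ (m + 1) + 1 : ℕ) : ℤ)
        ((3 ^ (2 * m + 1) + 3 ^ (m + 1) + 1 : ℕ) : ℤ) (Nat.card {x : G // orderOf x = d} : ℤ)) ∧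
    (Nat.card {x : G // orderOf x = 2} : ℤ) = vb ((3 ^ (2 * m + 1) : ℕ) : ℤ) ∧
    (Nat.card {x : G // orderOf x = 3} : ℤ) = vc ((3 ^ (2 * m + 1) : ℕ) : ℤ) ∧
    (Nat.card {x : G // orderOf x = 9} : ℤ) = vd ((3 ^ (2 * m + 1) : ℕ) : ℤ) := by
  have : CharP K 3 := ReeAbs.charP_three hK
  have Dl := ReeSetup.local_of_data D hK
  obtain ⟨f, t₀, S⟩ := ReeSetup.exists_setup D hK hG Dl
  have ar := ReeClass.arith m
  obtain ⟨A1, A2, c1, c2, k1, k2, n1, n2, z1, z2, hcov⟩ := ReeSetup.exists_tori D hm hK hG hcyc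
  have hord := ReeSetup.orders D hm hK hG hcyc
  have X := ctx hm
  have hGi := card_int D hK
  have hoq := odd_q m
  have g2 := ReeCounts.count_two S
  have g3 := ReeCounts2.count_three D hK S
  have g9 := ReeCounts2.count_nine D hK S
  have g6 := ReeCounts2.count_six D hK S
  have gA := fun {k : ℕ} => ReeCounts2.count_A D hK S (k := k)
  have gH := fun {k : ℕ} => ReeCounts2.count_H D hK S (k := k)
  have gSA := fun {k : ℕ} => ReeCounts.count_SA Dl ar S (k := k)
  have gEA := fun {k : ℕ} => ReeCounts.count_EA Dl ar S (k := k)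
  have h27 : 27 ≤ 3 ^ (2 * m + 1) := by exact_mod_cast X.q27
  have hle : 3 ^ (m + 1) ≤ 3 ^ (2 * m + 1) := Nat.pow_le_pow_right (by norm_num) (by omega)
  have hh1 := ReeCounts.odd_half ar
  have hh2 := ReeCounts.odd_quarter ar
  have hq8 := ar.q8
  have hsodd := NseArith.odd_s X hoq
  have htodd := NseArith.odd_t X hoq
  have hst := ReeNum.st X
  have hcop : Nat.Coprime (3 ^ (2 * m + 1) - 3 ^ (m + 1) + 1) (3 ^ (2 * m + 1) + 3 ^ (m + 1) + 1) := by
    apply Nat.coprime_of_dvd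
    intro p hp h1 h2
    exact NseArith.prime_s_t X hoq (Nat.prime_iff_prime_int.1 hp) (by exact_mod_cast h1) (by exact_mod_cast h2)
  have hsQ : (3 ^ (2 * m + 1) - 3 ^ (m + 1) + 1) * (3 ^ (2 * m + 1) + 3 ^ (m + 1) + 1) =
      (3 ^ (2 * m + 1)) ^ 2 - 3 ^ (2 * m + 1) + 1 := by
    have hle2 : 3 ^ (2 * m + 1) ≤ (3 ^ (2 * m + 1)) ^ 2 := Nat.le_self_pow two_ne_zero _
    have : (((3 ^ (2 * m + 1) - 3 ^ (m + 1) + 1) * (3 ^ (2 * m + 1) + 3 ^ (m + 1) + 1) : ℕ) : ℤ) =
      (((3 ^ (2 * m + 1)) ^ 2 - 3 ^ (2 * m + 1) + 1 : ℕ) : ℤ) := by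
      rw [Nat.cast_mul, hst, Nat.cast_add ((3 ^ (2 * m + 1)) ^ 2 - 3 ^ (2 * m + 1)), Nat.cast_sub hle2]
      push_cast
      ring
    exact_mod_cast this
  generalize 3 ^ (2 * m + 1) - 3 ^ (m + 1) + 1 = s at *
  generalize 3 ^ (2 * m + 1) + 3 ^ (m + 1) + 1 = t at *
  -- tori
  have gs : ∀ {k : ℕ}, k ≠ 1 → k ∣ s → Nat.card {x : G // orderOf x = k} * (6 * s) = Nat.card G * k.totient := by
    intro k hk hks
    rw [← n1]
    apply ReeCounts2.count_torus z1 hk (by rw [k1]; exact hks)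
    intro x hx
    have hx1 : x ≠ 1 := by
      rintro rfl
      rw [orderOf_one] at hx
      exact hk hx.symm
    obtain ⟨g, hg | hg⟩ := hcov x hx1 (by rw [← hsQ, hx]; exact hks.mul_right t)
    · exact ⟨g⁻¹, by rwa [inv_inv]⟩
    · exfalso
      have h1 : orderOf x ∣ t := by
        have h2 := orderOf_dvd_natCard (⟨_, hg⟩ : A2)
        rw [Subgroup.orderOf_mk, TICount.orderOf_conj', k2] at h2
        exact h2
      rw [hx] at h1
      exact hk (Nat.eq_one_of_dvd_coprimes hcop hks h1)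
  have gt : ∀ {k : ℕ}, k ≠ 1 → k ∣ t → Nat.card {x : G // orderOf x = k} * (6 * t) = Nat.card G * k.totient := by
    intro k hk hks
    rw [← n2]
    apply ReeCounts2.count_torus z2 hk (by rw [k2]; exact hks)
    intro x hx
    have hx1 : x ≠ 1 := by
      rintro rfl
      rw [orderOf_one] at hx
      exact hk hx.symm
    obtain ⟨g, hg | hg⟩ := hcov x hx1 (by rw [← hsQ, hx]; exact hks.mul_left s)
    · exfalso
      have h1 : orderOf x ∣ s := by
        have h2 := orderOf_dvd_natCard (⟨_, hg⟩ : A1)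
        rw [Subgroup.orderOf_mk, TICount.orderOf_conj', k1] at h2
        exact h2
      rw [hx] at h1
      exact hk (Nat.eq_one_of_dvd_coprimes hcop h1 hks)
    · exact ⟨g⁻¹, by rwa [inv_inv]⟩
  have hq1 : 1 ≤ 3 ^ (2 * m + 1) := by (clear * - h27; omega)
  have hq2 : 1 ≤ (3 ^ (2 * m + 1)) ^ 2 := Nat.one_le_pow _ _ (by (clear * - h27; omega))
  generalize 3 ^ (2 * m + 1) = q at *
  generalize 3 ^ (m + 1) = r at *
  -- over the integers
  have i2 : (Nat.card {x : G // orderOf x = 2} : ℤ) = vb (q : ℤ) := by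
    have h1 : (Nat.card {x : G // orderOf x = 2} : ℤ) * ((q : ℤ) * ((q : ℤ) ^ 2 - 1)) = vG q := by
      rw [← hGi, ← g2]
      push_cast [Nat.cast_sub hq2]
      ring
    have h2 : (q : ℤ) * ((q : ℤ) ^ 2 - 1) ≠ 0 := by
      have : (27 : ℤ) ≤ q := by exact_mod_cast h27
      apply mul_ne_zero
      · omega
      · linarith only [h27, hst, hsQ]
    apply mul_right_cancel₀ h2
    rw [h1]
    unfold vG vb
    ring
  have i3 : (Nat.card {x : G // orderOf x = 3} : ℤ) = vc (q : ℤ) := by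
    rw [g3]
    unfold vc
    push_cast [Nat.cast_sub hq2]
    ring
  have i9 : (Nat.card {x : G // orderOf x = 9} : ℤ) = vd (q : ℤ) := by
    rw [g9]
    unfold vd
    push_cast [Nat.cast_sub hq1]
    ring
  have i6 : (Nat.card {x : G // orderOf x = 6} : ℤ) = vd (q : ℤ) := by
    rw [g6]
    unfold vd
    push_cast [Nat.cast_sub hq1]
    ring
  have i1 : (Nat.card {x : G // orderOf x = 1} : ℤ) = 1 := by
    have := Cfsg.Agent.H418.Nse.co_one G
    unfold Cfsg.Agent.H418.Nse.co at this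
    rw [this]
    norm_num
  have Z27 : (27 : ℤ) ≤ q := by exact_mod_cast h27
  refine ⟨?_, i2, i3, i9⟩
  intro d hd0
  have hex : ∃ g : G, orderOf g = d := by
    by_contra hcon
    push Not at hcon
    apply hd0
    have : IsEmpty {x : G // orderOf x = d} := ⟨fun x => hcon x.1 x.2⟩
    exact Nat.card_of_isEmpty
  have hd := (hord d).1 hex
  -- E type
  have tE : ∀ k : ℕ, k ≠ 1 → k ∣ (q - 1) / 2 → ∀ c : ℕ, c * (2 * (q - 1)) = Nat.card G * k.totient →
      Typ q s t c := by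
    intro k hk1 hk c hc
    obtain ⟨j, hj⟩ := totient_even' (hh1.of_dvd_nat hk) hk1
    right; right; right; right; left
    refine ⟨j, ?_⟩
    rw [hj] at hc
    have h1 : (c : ℤ) * (2 * ((q : ℤ) - 1)) = vG q * (2 * j) := by
      rw [← hGi]
      have := congrArg (Nat.cast : ℕ → ℤ) hc
      push_cast [Nat.cast_sub hq1] at this
      linarith only [this]
    have h2 : (2 : ℤ) * ((q : ℤ) - 1) ≠ 0 := by omega
    apply mul_right_cancel₀ h2
    rw [h1]
    unfold vG vE
    ring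
  have tF : ∀ k : ℕ, k ≠ 1 → k ∣ (q + 1) / 4 → ∀ c l : ℕ, c * (6 * (q + 1)) = Nat.card G * (l * k.totient) →
      Typ q s t c := by
    intro k hk1 hk c l hc
    obtain ⟨j, hj⟩ := totient_even' (hh2.of_dvd_nat hk) hk1
    right; right; right; right; right; left
    refine ⟨l * j, ?_⟩
    rw [hj] at hc
    have h1 : (c : ℤ) * (6 * ((q : ℤ) + 1)) = vG q * (l * (2 * j)) := by
      rw [← hGi]
      have := congrArg (Nat.cast : ℕ → ℤ) hc
      push_cast at this
      linarith only [hc]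
    have h2 : (2 : ℤ) * ((q : ℤ) + 1) ≠ 0 := by omega
    apply mul_right_cancel₀ h2
    have h3 : 3 * (c : ℤ) * (2 * ((q : ℤ) + 1)) = (c : ℤ) * (6 * ((q : ℤ) + 1)) := by ring
    rw [h3, h1]
    unfold vG vF
    push_cast
    ring
  rcases hd with h | h | h | h | h | h
  · have h7 := Nat.le_of_dvd (by norm_num) h
    interval_cases d
    · exact absurd h (by norm_num)
    · exact Or.inl i1
    · exact Or.inr (Or.inl i2)
    · exact Or.inr (Or.inr (Or.inl i3))
    · exact absurd h (by norm_num)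
    · exact absurd h (by norm_num)
    · exact Or.inr (Or.inr (Or.inr (Or.inl i6)))
  · have h7 := Nat.le_of_dvd (by norm_num) h
    interval_cases d
    · exact absurd h (by norm_num)
    · exact Or.inl i1
    · exact absurd h (by norm_num)
    · exact Or.inr (Or.inr (Or.inl i3))
    · exact absurd h (by norm_num)
    · exact absurd h (by norm_num)
    · exact absurd h (by norm_num)
    · exact absurd h (by norm_num)
    · exact absurd h (by norm_num)
    · exact Or.inr (Or.inr (Or.inr (Or.inl i9)))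
  · have h1 : q - 1 = 2 * ((q - 1) / 2) := by omega
    rw [h1] at h
    rcases split_two h with h2 | ⟨k, hk, rfl⟩
    · by_cases hd1 : d = 1
      · subst hd1; exact Or.inl i1
      · exact tE d hd1 h2 _ (gA hd1 h2)
    · by_cases hk1 : k = 1
      · subst hk1; exact Or.inr (Or.inl i2)
      · exact tE k hk1 hk _ (gH hk1 hk)
  · have h1 : (q + 1) / 2 = 2 * ((q + 1) / 4) := by (clear * - hq8; omega)
    rw [h1] at h
    rcases split_two h with h2 | ⟨k, hk, rfl⟩
    · by_cases hd1 : d = 1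
      · subst hd1; exact Or.inl i1
      · exact tF d hd1 h2 _ 1 (by rw [one_mul]; exact gSA hd1 h2)
    · by_cases hk1 : k = 1
      · subst hk1; exact Or.inr (Or.inl i2)
      · exact tF k hk1 hk _ 3 (gEA hk1 hk)
  · by_cases hd1 : d = 1
    · subst hd1; exact Or.inl i1
    · right; right; right; right; right; right; left
      have hso : Odd s := by exact_mod_cast hsodd
      obtain ⟨j, hj⟩ := totient_even' (hso.of_dvd_nat h) hd1
      refine ⟨j, ?_⟩
      have hc := gs hd1 h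
      rw [hj] at hc
      have h1 : (Nat.card {x : G // orderOf x = d} : ℤ) * (6 * (s : ℤ)) = vG q * (2 * j) := by
        rw [← hGi]
        have := congrArg (Nat.cast : ℕ → ℤ) hc
        push_cast at this
        linarith only [this]
      have hs0 : (s : ℤ) ≠ 0 := (s_pos X).ne'
      have h2 : (2 : ℤ) * (s : ℤ) ≠ 0 := mul_ne_zero two_ne_zero hs0
      apply mul_right_cancel₀ h2
      have h3 : 3 * (Nat.card {x : G // orderOf x = d} : ℤ) * (2 * (s : ℤ)) =
        (Nat.card {x : G // orderOf x = d} : ℤ) * (6 * (s : ℤ)) := by ring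
      rw [h3, h1]
      unfold vG vH
      linear_combination (-2 * (j : ℤ) * (q : ℤ) ^ 3 * ((q : ℤ) ^ 2 - 1)) * hst
  · by_cases hd1 : d = 1
    · subst hd1; exact Or.inl i1
    · right; right; right; right; right; right; right
      have hto : Odd t := by exact_mod_cast htodd
      obtain ⟨j, hj⟩ := totient_even' (hto.of_dvd_nat h) hd1
      refine ⟨j, ?_⟩
      have hc := gt hd1 h
      rw [hj] at hc
      have h1 : (Nat.card {x : G // orderOf x = d} : ℤ) * (6 * (t : ℤ)) = vG q * (2 * j) := by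
        rw [← hGi]
        have := congrArg (Nat.cast : ℕ → ℤ) hc
        push_cast at this
        linarith only [this]
      have hs0 : (t : ℤ) ≠ 0 := (t_pos X).ne'
      have h2 : (2 : ℤ) * (t : ℤ) ≠ 0 := mul_ne_zero two_ne_zero hs0
      apply mul_right_cancel₀ h2
      have h3 : 3 * (Nat.card {x : G // orderOf x = d} : ℤ) * (2 * (t : ℤ)) =
        (Nat.card {x : G // orderOf x = d} : ℤ) * (6 * (t : ℤ)) := by ring
      rw [h3, h1]
      unfold vG vH
      linear_combination (-2 * (j : ℤ) * (q : ℤ) ^ 3 * ((q : ℤ) ^ 2 - 1)) * hst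

end main

end Cfsg.Agent.H362.ReeVals
end

-- part: H362/ReeGroup
section
/-!
# Groups of the order of a small Ree group with isolated primes
-/

set_option autoImplicit false
set_option linter.unusedSectionVars false

namespace Cfsg.Agent.H362.ReeGroup

open Subgroup
open Cfsg.Agent.H363.Frat
open Cfsg.Agent.H362.IsoGroup

universe u

/-- the hypothesis -/
structure Hyp (G : Type u) [Group G] (q s t : ℕ) : Prop where
  card : Nat.card G = q ^ 3 * (q ^ 3 + 1) * (q - 1)
  q8 : q % 8 = 3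
  st : s * t + q = q ^ 2 + 1
  s1 : 1 < s
  t1 : 1 < t
  cop : Nat.Coprime s t
  two : ¬ 2 ∣ s * t
  three : ¬ 3 ∣ s * t
  is : Isol s G
  it : Isol t G

/-- no solvable section -/
theorem no_solvable {K : Type*} [Group K] [Finite K] {s t : ℕ} (hs : Isol s K) (ht : Isol t K)
    (hcop : Nat.Coprime s t) (hst2 : ¬ 2 ∣ s * t) (hK : Group.IsSolvable K) (h2 : 2 ∣ Nat.card K)
    {p₁ p₂ : ℕ} (hp₁ : p₁.Prime) (hp₂ : p₂.Prime) (h₁ : p₁ ∣ s) (h₂ : p₂ ∣ t)
    (k₁ : p₁ ∣ Nat.card K) (k₂ : p₂ ∣ Nat.card K) : False := by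
  have n1 : ¬ 2 ∣ s := fun h => hst2 (h.mul_right t)
  have n2 : ¬ 2 ∣ t := fun h => hst2 (h.mul_left s)
  have n3 : ¬ p₂ ∣ s := fun h => hp₂.one_lt.ne' (Nat.eq_one_of_dvd_coprimes hcop h h₂)
  have e1 : 2 ≠ p₁ := by rintro rfl; exact n1 h₁
  have e2 : 2 ≠ p₂ := by rintro rfl; exact n2 h₂
  have e3 : p₁ ≠ p₂ := by rintro rfl; exact n3 h₁
  rcases Cfsg.Agent.H431.Lucido.lucido hK Nat.prime_two hp₁ hp₂ e1 e2 e3 h2 k₁ k₂ with ⟨x, hx⟩ | ⟨x, hx⟩ | ⟨x, hx⟩
  · exact (hs.nonAdj hp₁ Nat.prime_two h₁ n1).symm x hx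
  · exact (ht.nonAdj hp₂ Nat.prime_two h₂ n2).symm x hx
  · exact hs.nonAdj hp₁ hp₂ h₁ n3 x hx

variable {G : Type u} [Group G] [Finite G] {q s t : ℕ}

theorem Hyp.two_eight (h : Hyp G q s t) : 8 ∣ Nat.card G ∧ ¬ 16 ∣ Nat.card G := by
  obtain ⟨k, hk⟩ : ∃ k, q = 8 * k + 3 := ⟨q / 8, by have := h.q8; omega⟩
  have h1 : q ^ 3 = 2 * (256 * k ^ 3 + 288 * k ^ 2 + 108 * k + 13) + 1 := by rw [hk]; ring
  have h2 : q ^ 3 + 1 = 4 * (2 * (64 * k ^ 3 + 72 * k ^ 2 + 27 * k + 3) + 1) := by rw [hk]; ring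
  have h3 : q - 1 = 2 * (2 * (2 * k) + 1) := by omega
  rw [h.card, h2, h3]
  generalize h4 : 256 * k ^ 3 + 288 * k ^ 2 + 108 * k + 13 = a at h1
  generalize 64 * k ^ 3 + 72 * k ^ 2 + 27 * k + 3 = b at *
  rw [h1]
  have h5 : (2 * a + 1) * (4 * (2 * b + 1)) * (2 * (2 * (2 * k) + 1)) =
      8 * ((2 * a + 1) * (2 * b + 1) * (2 * (2 * k) + 1)) := by ring
  rw [h5]
  refine ⟨Dvd.intro _ rfl, ?_⟩
  intro h6
  have h7 : 2 ∣ (2 * a + 1) * (2 * b + 1) * (2 * (2 * k) + 1) := by
    have : 8 * 2 ∣ 8 * ((2 * a + 1) * (2 * b + 1) * (2 * (2 * k) + 1)) := by norm_num only []; exact h6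
    exact Nat.dvd_of_mul_dvd_mul_left (by norm_num) this
  rw [Nat.prime_two.dvd_mul, Nat.prime_two.dvd_mul] at h7
  (clear * - h7; omega)

theorem Hyp.card' (h : Hyp G q s t) : Nat.card G = q ^ 3 * (q + 1) * (s * t) * (q - 1) := by
  rw [h.card]
  have h1 := h.st
  have h2 : q ^ 3 + 1 = (q + 1) * (s * t) := by
    have h3 : (q + 1) * (s * t + q) = (q + 1) * (q ^ 2 + 1) := by rw [h1]
    linarith only [h3]
  rw [h2]
  ring

theorem Hyp.dvd (h : Hyp G q s t) : s * t ∣ Nat.card G := by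
  rw [h.card']
  exact ⟨q ^ 3 * (q + 1) * (q - 1), by ring⟩

theorem Hyp.primes (h : Hyp G q s t) :
    ∃ p₁ p₂ : ℕ, p₁.Prime ∧ p₂.Prime ∧ p₁ ∣ s ∧ p₂ ∣ t := by
  obtain ⟨p₁, h1, h2⟩ := Nat.exists_prime_and_dvd h.s1.ne'
  obtain ⟨p₂, h3, h4⟩ := Nat.exists_prime_and_dvd h.t1.ne'
  exact ⟨p₁, p₂, h1, h3, h2, h4⟩

theorem Hyp.not_solvable (h : Hyp G q s t) : ¬ Group.IsSolvable G := by
  intro hs
  obtain ⟨p₁, p₂, h1, h2, h3, h4⟩ := h.primes
  exact no_solvable h.is h.it h.cop h.two hs ((by norm_num : 2 ∣ 8).trans h.two_eight.1) h1 h2 h3 h4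
    ((h3.mul_right t).trans h.dvd) ((h4.mul_left s).trans h.dvd)

theorem Hyp.nonAdj_two (h : Hyp G q s t) {p : ℕ} (hp : p.Prime) (hst : p ∣ s * t) :
    NonAdj G p 2 := by
  rcases (Nat.Prime.dvd_mul hp).1 hst with h1 | h1
  · exact h.is.nonAdj hp Nat.prime_two h1 (fun h2 => h.two (h2.mul_right t))
  · exact h.it.nonAdj hp Nat.prime_two h1 (fun h2 => h.two (h2.mul_left s))

/-- the solvable radical has odd order -/
theorem Hyp.odd_radical (h : Hyp G q s t) (K : Subgroup G) [K.Normal] (hK : Group.IsSolvable K) :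
    Odd (Nat.card K) := by
  by_contra hodd
  rw [Nat.not_odd_iff_even, even_iff_two_dvd] at hodd
  obtain ⟨p₁, p₂, h1, h2, h3, h4⟩ := h.primes
  obtain ⟨e8, e16⟩ := h.two_eight
  have hmul := K.card_mul_index
  have hK0 : Nat.card K ≠ 0 := Nat.card_pos.ne'
  set j := (Nat.card K).factorization 2 with hj
  have hj1 : 1 ≤ j := Nat.Prime.factorization_pos_of_dvd Nat.prime_two hK0 hodd
  have hjd : 2 ^ j ∣ Nat.card K := Nat.ordProj_dvd _ _
  have hj3 : j ≤ 3 := by
    by_contra hcon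
    apply e16
    have : 2 ^ 4 ∣ 2 ^ j := pow_dvd_pow 2 (by omega)
    exact (this.trans hjd).trans (K.card_subgroup_dvd_card)
  -- a prime dividing `s t` and the index
  have key : ∀ p : ℕ, p.Prime → p ∣ s * t → p ∣ K.index → j = 3 := by
    intro p hp hpst hpi
    have h5 := pow_dvd_of_normal hp Nat.prime_two (by rintro rfl; exact h.two hpst)
      (h.nonAdj_two hp hpst) K (k := 1) (by rw [pow_one]; exact hpi)
    rw [pow_one, ← hj] at h5
    by_contra hne
    have h6 : j = 1 ∨ j = 2 := by omega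
    rcases h6 with h6 | h6
    · rw [h6] at h5
      norm_num at h5
      exact hp.one_lt.ne' h5
    · rw [h6] at h5
      norm_num at h5
      have := (Nat.prime_dvd_prime_iff_eq hp Nat.prime_three).1 h5
      rw [this] at hpst
      exact h.three hpst
  have hdv : ∀ p : ℕ, p.Prime → p ∣ s * t → ¬ p ∣ K.index → p ∣ Nat.card K := by
    intro p hp hpst hpi
    have h5 := hpst.trans h.dvd
    rw [← hmul] at h5
    exact ((Nat.Prime.dvd_mul hp).1 h5).resolve_right hpi
  by_cases hj' : j = 3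
  · -- the quotient has odd order
    have h5 : Odd (Nat.card (G ⧸ K)) := by
      rw [← Nat.not_even_iff_odd, even_iff_two_dvd]
      intro h6
      apply e16
      rw [← hmul, Subgroup.index_eq_card]
      have h7 : 2 ^ 3 ∣ Nat.card K := hj' ▸ hjd
      have : 2 ^ 3 * 2 ∣ Nat.card K * Nat.card (G ⧸ K) := mul_dvd_mul h7 h6
      exact (by norm_num : 16 ∣ 2 ^ 3 * 2).trans this
    have h6 : Group.IsSolvable (G ⧸ K) := Cfsg.Agent.S0205.result h5
    apply h.not_solvable
    exact Group.isSolvable_of_ker_le_range K.subtype (QuotientGroup.mk' K) (by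
      rw [QuotientGroup.ker_mk', Subgroup.range_subtype])
  · have i1 : p₁ ∣ Nat.card K := hdv p₁ h1 (h3.mul_right t) (fun hc => hj' (key p₁ h1 (h3.mul_right t) hc))
    have i2 : p₂ ∣ Nat.card K := hdv p₂ h2 (h4.mul_left s) (fun hc => hj' (key p₂ h2 (h4.mul_left s) hc))
    exact no_solvable (h.is.subgroup K) (h.it.subgroup K) h.cop h.two hK hodd h1 h2 h3 h4 i1 i2

/-- the radical has order prime to `s t` -/
theorem Hyp.coprime_radical (h : Hyp G q s t) (K : Subgroup G) [K.Normal] (hodd : Odd (Nat.card K))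
    {a b : G ⧸ K} (ha : orderOf a = 2) (hb : orderOf b = 2) (hab : a ≠ b) (hc : Commute a b) {p : ℕ}
    (hp : p.Prime) (hst : p ∣ s * t) : ¬ p ∣ Nat.card K := by
  intro hpK
  have : Fact p.Prime := ⟨hp⟩
  let P : Sylow p K := default
  set S : Subgroup G := (P : Subgroup K).map K.subtype with hS
  have hS1 : S ≠ ⊥ := by
    intro hbot
    rw [hS, Subgroup.map_eq_bot_iff_of_injective _ K.subtype_injective] at hbot
    have h1 := P.card_eq_multiplicity
    rw [hbot, Subgroup.card_bot] at h1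
    have h2 : 1 ≤ (Nat.card K).factorization p :=
      Nat.Prime.factorization_pos_of_dvd hp Nat.card_pos.ne' hpK
    have h3 := Nat.one_lt_pow (by omega : (Nat.card K).factorization p ≠ 0) hp.one_lt
    omega
  have hSp : IsPGroup p S := P.isPGroup'.map _
  have hN : normalizer (S : Set G) ⊔ K = ⊤ := Sylow.normalizer_sup_eq_top P
  let f : normalizer (S : Set G) →* G ⧸ K := (QuotientGroup.mk' K).comp (normalizer (S : Set G)).subtype
  have hf : Function.Surjective f := by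
    intro y
    obtain ⟨x, rfl⟩ := QuotientGroup.mk'_surjective K y
    have hx : x ∈ normalizer (S : Set G) ⊔ K := by rw [hN]; trivial
    rw [Subgroup.mem_sup_of_normal_right] at hx
    obtain ⟨n, hn, k, hk, rfl⟩ := hx
    refine ⟨⟨n, hn⟩, ?_⟩
    show QuotientGroup.mk' K n = QuotientGroup.mk' K (n * k)
    rw [map_mul]
    have : QuotientGroup.mk' K k = 1 := (QuotientGroup.eq_one_iff k).2 hk
    rw [this, mul_one]
  have hker : Odd (Nat.card f.ker) := by
    have h1 : Nat.card f.ker ∣ Nat.card K := by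
      let g : f.ker →* K :=
        { toFun := fun x => ⟨((x : normalizer (S : Set G)) : G), (QuotientGroup.eq_one_iff _).1 (MonoidHom.mem_ker.1 x.2)⟩
          map_one' := rfl
          map_mul' := fun _ _ => rfl }
      exact Subgroup.card_dvd_of_injective g (fun x y hxy =>
        Subtype.ext (Subtype.ext (congrArg (Subtype.val : K → G) hxy)))
    exact hodd.of_dvd_nat h1
  obtain ⟨a', b', h1, h2, h3, h4⟩ := lift_four f hf hker ha hb hab hc
  refine four_free hp (by rintro rfl; exact h.two hst) (h.nonAdj_two hp hst).symm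
    (a := (a' : G)) (b := (b' : G)) ?_ ?_ (fun h => h3 (Subtype.ext h)) ?_ hSp hS1 a'.2 b'.2
  · rw [Subgroup.orderOf_coe]; exact h1
  · rw [Subgroup.orderOf_coe]; exact h2
  · exact congrArg Subtype.val h4

/-- two commuting non-solvable subgroups -/
theorem sixteen_dvd {H : Type*} [Group H] [Finite H] (A B : Subgroup H) (hA : ¬ Group.IsSolvable A)
    (hB : ¬ Group.IsSolvable B) (hAB : ∀ a ∈ A, ∀ b ∈ B, a * b = b * a) : 16 ∣ Nat.card H := by
  let φ : A × B →* H := MonoidHom.noncommCoprod A.subtype B.subtype (fun a b => hAB a a.2 b b.2)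
  have h1 : Nat.card φ.ker * Nat.card φ.range = Nat.card A * Nat.card B := by
    rw [← Subgroup.index_ker, Subgroup.card_mul_index, Nat.card_prod]
  -- the image of the kernel in `A`
  let π : A × B →* A := MonoidHom.fst A B
  set Z : Subgroup A := φ.ker.map π with hZ
  have hinj : Function.Injective (π.subgroupMap φ.ker) := by
    rintro ⟨⟨a, b⟩, h⟩ ⟨⟨a', b'⟩, h'⟩ hh
    have e1 : a = a' := congrArg Subtype.val hh
    have e2 : (a : H) * b = 1 := MonoidHom.mem_ker.1 h
    have e3 : (a' : H) * b' = 1 := MonoidHom.mem_ker.1 h'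
    subst e1
    have e4 : (b : H) = b' := by
      rw [← e3] at e2
      exact mul_left_cancel e2
    have e5 : b = b' := Subtype.ext e4
    subst e5
    rfl
  have h2 : Nat.card Z = Nat.card φ.ker := by
    apply le_antisymm
    · exact Nat.card_le_card_of_surjective _ (π.subgroupMap_surjective φ.ker)
    · exact Nat.card_le_card_of_injective _ hinj
  have hZc : ∀ z ∈ Z, ∀ a : A, z * a = a * z := by
    rintro _ ⟨⟨z, b⟩, hzb, rfl⟩ a
    have e2 : (z : H) * b = 1 := MonoidHom.mem_ker.1 hzb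
    have e3 : (z : H) = (b : H)⁻¹ := eq_inv_of_mul_eq_one_left e2
    apply Subtype.ext
    show (z : H) * a = a * z
    rw [e3]
    have e4 := hAB a a.2 _ (B.inv_mem b.2)
    exact e4.symm
  have hZn : Z.Normal := ⟨fun z hz g => by rw [← hZc z hz g, mul_inv_cancel_right]; exact hz⟩
  have hZs : Group.IsSolvable Z := by
    exact Group.isSolvable_of_comm fun x y => Subtype.ext (hZc x x.2 y)
  have h4A : 4 ∣ Nat.card (A ⧸ Z) := by
    by_contra hcon
    apply hA
    have h5 : Group.IsSolvable (A ⧸ Z) := Cfsg.Agent.H495.NotFour.isSolvable_of_not_four_dvd hcon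
    exact Group.isSolvable_of_ker_le_range Z.subtype (QuotientGroup.mk' Z) (by
      rw [QuotientGroup.ker_mk', Subgroup.range_subtype])
  have h4B : 4 ∣ Nat.card B := by
    by_contra hcon
    exact hB (Cfsg.Agent.H495.NotFour.isSolvable_of_not_four_dvd hcon)
  have h6 : Nat.card A = Nat.card Z * Nat.card (A ⧸ Z) := by
    rw [← Subgroup.index_eq_card, Subgroup.card_mul_index]
  rw [h6, h2, mul_assoc] at h1
  have h7 : Nat.card φ.range = Nat.card (A ⧸ Z) * Nat.card B :=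
    Nat.eq_of_mul_eq_mul_left Nat.card_pos h1
  have h8 : 4 * 4 ∣ Nat.card φ.range := by rw [h7]; exact mul_dvd_mul h4A h4B
  exact ((by norm_num : 16 ∣ 4 * 4).trans h8).trans (Subgroup.card_subgroup_dvd_card _)

/-- free action of a Sylow subgroup on the involutions of a normal subgroup -/
theorem pow_dvd_involutions {H : Type*} [Group H] [Finite H] (S : Subgroup H) [S.Normal] {p k : ℕ}
    (hp : p.Prime) (hp2 : p ≠ 2) (hna : NonAdj H p 2) (hk : p ^ k ∣ Nat.card H) :
    p ^ k ∣ Nat.card {x : S // orderOf x = 2} := by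
  have : Fact p.Prime := ⟨hp⟩
  let P : Sylow p H := default
  have h1 : p ^ k ∣ Nat.card P := P.pow_dvd_card_of_pow_dvd_card hk
  refine h1.trans ?_
  let _act : MulAction P {x : S // orderOf x = 2} :=
    { smul := fun a y => ⟨MulAut.conjNormal (a : H) y.1, by rw [MulEquiv.orderOf_eq]; exact y.2⟩
      one_smul := fun y => Subtype.ext (by
        show MulAut.conjNormal ((1 : P) : H) y.1 = y.1
        rw [Subgroup.coe_one, map_one]; rfl)
      mul_smul := fun a b y => Subtype.ext (by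
        show MulAut.conjNormal ((a * b : P) : H) y.1 = MulAut.conjNormal (a : H) (MulAut.conjNormal (b : H) y.1)
        rw [Subgroup.coe_mul, map_mul]; rfl) }
  apply card_dvd_of_free (A := P) (Y := {x : S // orderOf x = 2})
  intro a y hay
  have h2 : MulAut.conjNormal (a : H) y.1 = y.1 := congrArg Subtype.val hay
  have h3 : (a : H) * (y.1 : H) * (a : H)⁻¹ = y.1 := by
    have := congrArg Subtype.val h2
    rwa [MulAut.conjNormal_apply] at this
  have h4 : Commute (a : H) (y.1 : H) := by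
    rw [mul_inv_eq_iff_eq_mul] at h3
    exact h3
  have hy : orderOf (y.1 : H) = 2 := by rw [Subgroup.orderOf_coe]; exact y.2
  obtain ⟨l, hl⟩ := (IsPGroup.iff_orderOf.1 P.isPGroup') a
  have h5 := eq_one_of_commute hp Nat.prime_two hp2 hna ⟨l, by rw [Subgroup.orderOf_coe]; exact hl⟩
    ⟨1, by rw [hy, pow_one]⟩ h4 (by rintro h; rw [h, orderOf_one] at hy; omega)
  exact Subtype.ext h5

/-- **The simple section.** -/
theorem Hyp.exists_simple (h : Hyp G q s t) :
    ∃ (H : Type u) (_ : Group H) (_ : Finite H) (S : Subgroup H), S.Normal ∧ IsSimpleGroup S ∧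
      ¬ IsMulCommutative S ∧ 4 ∣ Nat.card S ∧ ¬ 16 ∣ Nat.card S ∧ 8 ∣ Nat.card H ∧ Nat.card H ∣ Nat.card G ∧
      Isol s H ∧ Isol t H ∧ s * t ∣ Nat.card {x : S // orderOf x = 2} ∧
      (Nat.card S = Nat.card G → Nonempty (G ≃* S)) := by
  classical
  obtain ⟨K, hKn, hKs, hKr⟩ := Cfsg.Agent.H366.AlmostSimple.exists_radical G
  have hodd := h.odd_radical K hKs
  obtain ⟨e8, e16⟩ := h.two_eight
  have hmul : Nat.card K * Nat.card (G ⧸ K) = Nat.card G := by
    rw [← Subgroup.index_eq_card, Subgroup.card_mul_index]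
  have hHd : Nat.card (G ⧸ K) ∣ Nat.card G := Dvd.intro_left _ hmul
  have hH16 : ¬ 16 ∣ Nat.card (G ⧸ K) := fun hc => e16 (hc.trans hHd)
  have hH8 : 8 ∣ Nat.card (G ⧸ K) := by
    have h1 : Nat.Coprime 8 (Nat.card K) := by
      have : (8 : ℕ) = 2 ^ 3 := by norm_num
      rw [this]
      exact Nat.Coprime.pow_left 3 (Nat.coprime_two_left.2 hodd)
    exact h1.dvd_of_dvd_mul_left (by rw [hmul]; exact e8)
  have hnt : Nontrivial (G ⧸ K) := by
    rw [← Finite.one_lt_card_iff_nontrivial]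
    exact lt_of_lt_of_le (by norm_num) (Nat.le_of_dvd Nat.card_pos hH8)
  obtain ⟨S, hSn, hSs, hSns, -⟩ := Cfsg.Agent.H366.AlmostSimple.exists_simple_normal hKr
    (fun A B hA hB hAB => hH16 (sixteen_dvd A B hA hB hAB))
  have hSna : ¬ IsMulCommutative S := by
    intro hc
    exact hSns (Group.isSolvable_of_comm fun x y => hc.is_comm.comm x y)
  have hS4 : 4 ∣ Nat.card S := by
    by_contra hcon
    exact hSns (Cfsg.Agent.H495.NotFour.isSolvable_of_not_four_dvd hcon)
  have hSd : Nat.card S ∣ Nat.card (G ⧸ K) := S.card_subgroup_dvd_card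
  have hS16 : ¬ 16 ∣ Nat.card S := fun hc => hH16 (hc.trans hSd)
  obtain ⟨a, b, ha, hb, hab, hc⟩ := exists_four hSna hS4 hS16
  have hcop : ∀ {p : ℕ}, p.Prime → p ∣ s * t → ¬ p ∣ Nat.card K := fun hp hst =>
    h.coprime_radical K hodd (a := (a : G ⧸ K)) (b := (b : G ⧸ K)) (by rw [Subgroup.orderOf_coe]; exact ha)
      (by rw [Subgroup.orderOf_coe]; exact hb) (fun h => hab (Subtype.ext h)) (congrArg Subtype.val hc) hp hst
  refine ⟨G ⧸ K, inferInstance, inferInstance, S, hSn, hSs, hSna, hS4, hS16, hH8, hHd, h.is.quotient K,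
    h.it.quotient K, ?_, ?_⟩
  · rw [Nat.dvd_iff_prime_pow_dvd_dvd]
    intro p k hp hpk
    rcases Nat.eq_zero_or_pos k with rfl | hk
    · exact one_dvd _
    have hpst : p ∣ s * t := (dvd_pow_self p hk.ne').trans hpk
    have hp2 : p ≠ 2 := by rintro rfl; exact h.two hpst
    apply pow_dvd_involutions S hp hp2 ((h.nonAdj_two hp hpst).quotient K)
    have h1 : Nat.Coprime (p ^ k) (Nat.card K) :=
      Nat.Coprime.pow_left k ((Nat.Prime.coprime_iff_not_dvd hp).2 (hcop hp hpst))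
    exact h1.dvd_of_dvd_mul_left (by rw [hmul]; exact hpk.trans h.dvd)
  · intro hcard
    have h1 : Nat.card (G ⧸ K) = Nat.card G := by
      apply le_antisymm (Nat.le_of_dvd Nat.card_pos hHd)
      rw [← hcard]
      exact Nat.le_of_dvd Nat.card_pos hSd
    have hK1 : K = ⊥ := by
      rw [← Subgroup.card_eq_one]
      have h2 : Nat.card K * Nat.card G = 1 * Nat.card G := by rw [one_mul]; rw [h1] at hmul; exact hmul
      exact Nat.eq_of_mul_eq_mul_right Nat.card_pos h2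
    have hS1 : S = ⊤ := by
      apply Subgroup.eq_top_of_card_eq
      rw [hcard, h1]
    have e1 : G ≃* G ⧸ K := (QuotientGroup.quotientBot (G := G)).symm.trans (QuotientGroup.quotientMulEquivOfEq hK1.symm)
    have e2 : S ≃* G ⧸ K := (MulEquiv.subgroupCongr hS1).trans Subgroup.topEquiv
    exact ⟨e1.trans e2.symm⟩

end Cfsg.Agent.H362.ReeGroup
end

-- part: H362/ReeElim
section
/-!
# Simple groups of order not divisible by 16 with isolated sets of primes
-/

set_option autoImplicit false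
set_option linter.unusedSectionVars false

namespace Cfsg.Agent.H362.ReeElim

open Subgroup
open Cfsg
open Cfsg.Agent.H363.Frat
open Cfsg.Agent.H362.IsoGroup

universe u

/-- Simple groups of order not divisible by `16`. -/
theorem classify {S : Type u} [Group S] [Finite S] [IsSimpleGroup S] (hS : ¬ IsMulCommutative S)
    (h4 : 4 ∣ Nat.card S) (h16 : ¬ 16 ∣ Nat.card S) :
    Nat.card S ≤ 504 ∨
    (∃ (F : Type) (_ : Field F) (_ : Fintype F), Odd (Fintype.card F) ∧
      Nonempty (S ≃* Matrix.ProjectiveSpecialLinearGroup (Fin 2) F)) ∨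
    (8 ∣ Nat.card S ∧ (Nat.card S = 2520 ∨ Nat.card S = 175560)) ∨ Cfsg.Lie.IsoRee S := by
  classical
  have : Fact (Nat.Prime 2) := ⟨Nat.prime_two⟩
  have h2 : 2 ∣ Nat.card S := (by norm_num : 2 ∣ 4).trans h4
  obtain ⟨T⟩ : Nonempty (Sylow 2 S) := inferInstance
  by_cases hab : IsMulCommutative (T : Subgroup S)
  · have hab' : ∀ x ∈ (T : Subgroup S), ∀ y ∈ (T : Subgroup S), x * y = y * x :=
      fun x hx y hy => congrArg Subtype.val (hab.is_comm.comm (⟨x, hx⟩ : T) ⟨y, hy⟩)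
    rcases Cfsg.Agent.H478.WalterAll.iso_of_abelian hS T hab' with ⟨F, iF, iF', n, hn, hF, ⟨e⟩⟩ |
      ⟨F, iF, iF', hF, h5, ⟨e⟩⟩ | h | ⟨⟨e⟩⟩
    · left
      have hev : Even (Fintype.card F) := by
        rw [hF]
        exact (even_two).pow_of_ne_zero (by omega)
      have hN := SmallSimple.PSLTwoPart.card_psl_two_even hev
      rw [← Nat.card_congr e.toEquiv, hF] at hN
      have hn4 : n < 4 := by
        by_contra hge
        apply h16
        rw [hN]
        exact Dvd.dvd.mul_right (Nat.pow_dvd_pow 2 (show 4 ≤ n by omega)) _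
      rw [hN]
      interval_cases n <;> norm_num
    · right; left
      refine ⟨F, iF, iF', ?_, ⟨e⟩⟩
      rw [Nat.odd_iff]
      omega
    · exact Or.inr (Or.inr (Or.inr h))
    · right; right; left
      have hc : Nat.card S = 175560 := by
        rw [Nat.card_congr e.toEquiv]
        exact SporadicB.J1.Main.isJ1.2
      refine ⟨by rw [hc]; norm_num, Or.inr hc⟩
  · have h8 : 8 ∣ Nat.card S := by
      by_contra h8
      obtain ⟨hK, -⟩ := SmallSimple.EvenOrder.klein_four_of_not_dvd_eight hS h2 h8 T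
      exact hab hK.isMulCommutative
    have hT := SmallSimple.SylowEight.card_sylow_eight h8 h16 T
    have hO : ∀ N : Subgroup S, N.Normal → Odd (Nat.card N) → N = ⊥ := by
      intro N hN hodd
      rcases hN.eq_bot_or_eq_top with h | h
      · exact h
      · exfalso
        rw [h, Nat.card_congr Subgroup.topEquiv.toEquiv, Nat.odd_iff] at hodd
        omega
    rcases SmallSimple.OrderEight.dihedral_or_quaternion_of_card_eight hT hab with ⟨⟨e⟩⟩ | ⟨⟨e⟩⟩
    · have hperf : Group.IsPerfect S := by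
        refine ⟨?_⟩
        have hnc : commutator S ≠ ⊥ := by
          intro h
          apply hS
          have := (commutator_eq_bot_iff_center_eq_top (G := S)).1 h
          refine ⟨⟨fun a b => ?_⟩⟩
          have ha : a ∈ Subgroup.center S := by rw [this]; trivial
          exact (Subgroup.mem_center_iff.1 ha b).symm
        exact (Subgroup.Normal.eq_bot_or_eq_top (H := commutator S) inferInstance).resolve_left hnc
      have hcore : Cfsg.oddCore S = ⊥ := by
        refine sSup_eq_bot.2 ?_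
        rintro N ⟨hN1, hN2⟩
        exact hO N hN1 (Nat.coprime_two_right.1 hN2)
      have e1 : S ⧸ Cfsg.oddCore S ≃* S :=
        (QuotientGroup.quotientMulEquivOfEq hcore).trans QuotientGroup.quotientBot
      rcases Cfsg.Agent.S0483.result T 4 (by norm_num) ⟨e⟩ with ⟨F, iF, iF', hodd, h3, ⟨f⟩⟩ | ⟨⟨f⟩⟩
      · right; left
        exact ⟨F, iF, iF', hodd, ⟨e1.symm.trans f⟩⟩
      · right; right; left
        refine ⟨h8, Or.inl ?_⟩
        rw [Nat.card_congr (e1.symm.trans f).toEquiv, nat_card_alternatingGroup]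
        simp [Nat.factorial]
    · exfalso
      have hZ := Cfsg.Agent.S0201.result T 0 (by simpa using e) hO
      rcases (inferInstance : (Subgroup.center S).Normal).eq_bot_or_eq_top with h | h
      · rw [h] at hZ
        simp at hZ
      · apply hS
        refine ⟨⟨fun a b => ?_⟩⟩
        have ha : a ∈ Subgroup.center S := by rw [h]; trivial
        exact (Subgroup.mem_center_iff.1 ha b).symm

/-- one class of involutions -/
theorem involutions_dvd {S : Type*} [Group S] [Finite S]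
    (hc : ∀ x y : S, orderOf x = 2 → orderOf y = 2 → IsConj x y) (h2 : 2 ∣ Nat.card S) :
    Nat.card {x : S // orderOf x = 2} ∣ Nat.card S := by
  classical
  have : Fact (Nat.Prime 2) := ⟨Nat.prime_two⟩
  obtain ⟨a, ha⟩ := exists_prime_orderOf_dvd_card' 2 h2
  have h1 : Nat.card {x : S // orderOf x = 2} = (MulAction.orbit (ConjAct S) a).ncard := by
    rw [← Nat.card_coe_set_eq]
    apply Nat.card_congr
    apply Equiv.subtypeEquivRight
    intro x
    rw [ConjAct.mem_orbit_conjAct]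
    constructor
    · intro hx
      exact hc x a hx ha
    · intro hx
      rw [isConj_iff] at hx
      obtain ⟨c, hcx⟩ := hx
      rw [← ha, ← hcx]
      exact (MulEquiv.orderOf_eq (MulAut.conj c) x).symm
  rw [h1, ← MulAction.index_stabilizer]
  exact (MulAction.stabilizer (ConjAct S) a).index_dvd_card

/-- the primes of the order of an element -/
theorem isol_prime_dvd {H : Type*} [Group H] {s : ℕ} (h : Isol s H) {x : H} {n p p' : ℕ}
    (hx : orderOf x = n) (hp : p.Prime) (hp' : p'.Prime) (hps : p ∣ s) (hpn : p ∣ n) (hpn' : p' ∣ n) :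
    p' ∣ s := by
  by_contra hcon
  exact h x p p' hp hp' hps hcon (by rw [hx]; exact hpn) (by rw [hx]; exact hpn')

/-- `PSL(2, q₀)`, `q₀` odd. -/
theorem psl_two {S : Type*} [Group S] [Finite S] {F : Type*} [Field F] [Fintype F]
    (hodd : Odd (Fintype.card F)) (e : S ≃* Matrix.ProjectiveSpecialLinearGroup (Fin 2) F) {s t : ℕ}
    (hs : Isol s S) (ht : Isol t S) (hcop : Nat.Coprime s t) (h2 : ¬ 2 ∣ s * t) (s1 : 1 < s) (hst : s < t)
    (hd : s * t ∣ Nat.card S) (hN : ∀ p k : ℕ, p.Prime → p ∣ s * t → p ^ k ∣ Nat.card S → p ^ k ∣ s * t) :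
    Fintype.card F = t ∧ 2 * s ≤ t + 1 := by
  classical
  have t1 : 1 < t := by omega
  obtain ⟨a, ha⟩ := hodd
  have hcard := SmallSimple.PSLTwoPart.card_psl_two_odd (F := F) ⟨a, ha⟩
  rw [← Nat.card_congr e.toEquiv] at hcard
  have ha0 : 0 < a := by
    have : 1 < Fintype.card F := Fintype.one_lt_card
    omega
  have hcard' : Nat.card S = 2 * (Fintype.card F * (a * (a + 1))) := by
    have h3 : Fintype.card F ^ 2 - 1 = 4 * (a * (a + 1)) := by
      rw [ha]
      have : (2 * a + 1) ^ 2 = 4 * (a * (a + 1)) + 1 := by ring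
      omega
    rw [h3] at hcard
    linarith only [hcard]
  have hgcd : Nat.gcd 2 (Fintype.card F - 1) = 2 := by
    rw [ha]
    exact Nat.gcd_eq_left ⟨a, by omega⟩
  obtain ⟨x, hx⟩ := Cfsg.Agent.H363.PSL2Spec.exists_split (F := F) rfl
  obtain ⟨y, hy⟩ := Cfsg.Agent.H363.PSL2Spec.exists_nonsplit (F := F) rfl
  rw [hgcd] at hx hy
  have hx' : orderOf (e.symm x) = a := by rw [MulEquiv.orderOf_eq, hx]; (clear * - ha; omega)
  have hy' : orderOf (e.symm y) = a + 1 := by rw [MulEquiv.orderOf_eq, hy]; omega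
  obtain ⟨f, p₀, hp₀, hf0, hF⟩ : ∃ f p₀ : ℕ, p₀.Prime ∧ f ≠ 0 ∧ Fintype.card F = p₀ ^ f := by
    obtain ⟨p, hp⟩ := CharP.exists F
    obtain ⟨n, hp1, hn⟩ := FiniteField.card F p
    exact ⟨n, p, hp1, n.2.ne', hn⟩
  -- the odd and the even torus
  obtain ⟨c, c', hcc, zc, zc', hzc, hzc', hev, hcle⟩ : ∃ c c' : ℕ, a * (a + 1) = c * c' ∧
      ∃ zc zc' : S, orderOf zc = c ∧ orderOf zc' = c' ∧ 2 ∣ c' ∧ (c = a ∨ c = a + 1) := by
    rcases Nat.even_or_odd a with h | h
    · exact ⟨a + 1, a, by ring, e.symm y, e.symm x, hy', hx', h.two_dvd, Or.inr rfl⟩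
    · exact ⟨a, a + 1, rfl, e.symm x, e.symm y, hx', hy', h.add_one.two_dvd, Or.inl rfl⟩
  have hc0 : c ≠ 0 := by (clear * - ha ha0 hx' hy' hF hcle; omega)
  have hcopc : Nat.Coprime (Fintype.card F) c := by
    rw [ha]
    apply Nat.isCoprime_iff_coprime.1
    rcases hcle with rfl | rfl
    · exact ⟨1, -2, by push_cast; ring⟩
    · exact ⟨-1, 2, by push_cast; ring⟩
  have hdd : s * t ∣ Fintype.card F * c := by
    rw [hcard', hcc] at hd
    have h5 : Nat.Coprime (s * t) (2 * c') := by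
      apply Nat.Coprime.mul_right
      · rw [Nat.coprime_comm]; exact (Nat.Prime.coprime_iff_not_dvd Nat.prime_two).2 h2
      · apply Nat.coprime_of_dvd
        intro p hp h6 h7
        rcases (Nat.Prime.dvd_mul hp).1 h6 with h8 | h8
        · exact h2 ((isol_prime_dvd hs hzc' hp Nat.prime_two h8 h7 hev).mul_right t)
        · exact h2 ((isol_prime_dvd ht hzc' hp Nat.prime_two h8 h7 hev).mul_left s)
    apply h5.dvd_of_dvd_mul_left
    have : 2 * c' * (Fintype.card F * c) = 2 * (Fintype.card F * (c * c')) := by ring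
    rw [this]
    exact hd
  have hFd : Fintype.card F ∣ Nat.card S := by
    rw [hcard']
    exact ⟨2 * (a * (a + 1)), by ring⟩
  have hp0F : ∀ p : ℕ, p.Prime → p ∣ Fintype.card F → p = p₀ := by
    intro p hp h5
    rw [hF] at h5
    exact (Nat.prime_dvd_prime_iff_eq hp hp₀).1 (hp.dvd_of_dvd_pow h5)
  -- `q₀` divides `s t`
  have hFst : p₀ ∣ s * t → Fintype.card F ∣ s * t := by
    intro h5
    rw [hF]
    exact hN p₀ f hp₀ h5 (hF ▸ hFd)
  have hle : c ≤ a + 1 := by (clear * - hcle; omega)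
  obtain ⟨p₁, hp₁, h₁⟩ := Nat.exists_prime_and_dvd s1.ne'
  obtain ⟨p₂, hp₂, h₂⟩ := Nat.exists_prime_and_dvd t1.ne'
  have hncop : ∀ p : ℕ, p.Prime → p ∣ s → p ∣ t → False := fun p hp h5 h6 =>
    hp.one_lt.ne' (Nat.eq_one_of_dvd_coprimes hcop h5 h6)
  by_cases hp2c : p₂ ∣ c
  · exfalso
    -- all primes of `c` divide `t`
    have hct : ∀ p : ℕ, p.Prime → p ∣ c → p ∣ t := fun p hp h5 => isol_prime_dvd ht hzc hp₂ hp h₂ hp2c h5
    have hsc : Nat.Coprime s c := by
      apply Nat.coprime_of_dvd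
      intro p hp h5 h6
      exact hncop p hp h5 (hct p hp h6)
    have hsF : s ∣ Fintype.card F := hsc.dvd_of_dvd_mul_right ((Dvd.intro _ rfl).trans hdd)
    have hp0 : p₁ = p₀ := hp0F p₁ hp₁ (h₁.trans hsF)
    have htF : Nat.Coprime t (Fintype.card F) := by
      apply Nat.coprime_of_dvd
      intro p hp h5 h6
      have := hp0F p hp h6
      rw [this, ← hp0] at h5
      exact hncop p₁ hp₁ h₁ h5
    have htc : t ∣ c := htF.dvd_of_dvd_mul_left ((Dvd.intro_left _ rfl).trans hdd)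
    have hFs : Fintype.card F ∣ s := by
      have h5 := hFst (hp0 ▸ (h₁.mul_right t))
      exact htF.symm.dvd_of_dvd_mul_right h5
    have h5 := Nat.le_of_dvd (by omega) hFs
    have h6 := Nat.le_of_dvd (by omega) htc
    (clear * - hst ha hle h5 h6; omega)
  · have hp2F : p₂ ∣ Fintype.card F :=
      ((Nat.Prime.dvd_mul hp₂).1 ((h₂.mul_left s).trans hdd)).resolve_right hp2c
    have hp0 : p₂ = p₀ := hp0F p₂ hp₂ hp2F
    have hsF : Nat.Coprime s (Fintype.card F) := by
      apply Nat.coprime_of_dvd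
      intro p hp h5 h6
      have := hp0F p hp h6
      rw [this, ← hp0] at h5
      exact hncop p₂ hp₂ h5 h₂
    have hsc : s ∣ c := hsF.dvd_of_dvd_mul_left ((Dvd.intro _ rfl).trans hdd)
    have hcs : ∀ p : ℕ, p.Prime → p ∣ c → p ∣ s := fun p hp h5 =>
      isol_prime_dvd hs hzc hp₁ hp h₁ (h₁.trans hsc) h5
    have htc : Nat.Coprime t c := by
      apply Nat.coprime_of_dvd
      intro p hp h5 h6
      exact hncop p hp (hcs p hp h6) h5
    have htF : t ∣ Fintype.card F := htc.dvd_of_dvd_mul_right ((Dvd.intro_left _ rfl).trans hdd)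
    have hFt : Fintype.card F ∣ t := by
      have h5 := hFst (hp0 ▸ (h₂.mul_left s))
      exact hsF.symm.dvd_of_dvd_mul_left h5
    have h5 := Nat.dvd_antisymm hFt htF
    refine ⟨h5, ?_⟩
    have h6 := Nat.le_of_dvd (by omega) hsc
    (clear * - ha hle h5 h6; omega)

/-- the case `q = 27`, `q₀ = 37` -/
theorem kill_37 {H : Type*} [Group H] [Finite H] (S : Subgroup H) [S.Normal] (hS : Nat.card S = 25308)
    (h8 : 8 ∣ Nat.card H) (hi : NonAdj H 19 2) : False := by
  classical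
  have : Fact (Nat.Prime 19) := ⟨by norm_num⟩
  have : Fact (Nat.Prime 2) := ⟨Nat.prime_two⟩
  let Y : Sylow 19 S := default
  have hY : Nat.card Y = 19 := by
    rw [Y.card_eq_multiplicity, hS]
    have : (25308 : ℕ).factorization 19 = 1 := by
      rw [show (25308 : ℕ) = 19 * 1332 by norm_num, Nat.factorization_mul (by norm_num) (by norm_num)]
      rw [Finsupp.add_apply, Nat.Prime.factorization_self (by norm_num),
        Nat.factorization_eq_zero_of_not_dvd (by norm_num)]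
    rw [this]
    norm_num
  have hmod : Nat.card (Sylow 19 S) ≡ 1 [MOD 19] := card_sylow_modEq_one 19 S
  have hidx : (Y : Subgroup S).index = 1332 := by
    have h1 := (Y : Subgroup S).card_mul_index
    rw [hY, hS] at h1
    omega
  have hn : Nat.card (Sylow 19 S) ∣ 1332 := hidx ▸ Y.card_dvd_index
  -- the normaliser in `H`
  set Y' : Subgroup H := (Y : Subgroup S).map S.subtype with hY'
  have hcY' : Nat.card Y' = 19 := by
    rw [hY', Nat.card_congr ((Y : Subgroup S).equivMapOfInjective S.subtype S.subtype_injective).symm.toEquiv]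
    exact hY
  have hcyc : IsCyclic Y' := isCyclic_of_prime_card (p := 19) hcY'
  have hN : normalizer (Y' : Set H) ⊔ S = ⊤ := Sylow.normalizer_sup_eq_top Y
  have hidxN : (normalizer (Y' : Set H)).index = Nat.card (Sylow 19 S) := by
    rw [Y.card_eq_index_normalizer]
    have h1 : (normalizer (Y' : Set H)).relIndex S = (normalizer (Y' : Set H)).index := by
      have h2 := Subgroup.relIndex_sup_right (normalizer (Y' : Set H)) S
      rw [hN, Subgroup.relIndex_top_right] at h2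
      have h3 := Subgroup.relIndex_mul_index (inf_le_left : normalizer (Y' : Set H) ⊓ S ≤ normalizer (Y' : Set H))
      have h4 := Subgroup.relIndex_mul_index (inf_le_right : normalizer (Y' : Set H) ⊓ S ≤ S)
      rw [Subgroup.inf_relIndex_left, ← h2] at h3
      rw [Subgroup.inf_relIndex_right, ← h3, mul_comm] at h4
      exact Nat.eq_of_mul_eq_mul_left (Nat.pos_of_ne_zero S.index_ne_zero_of_finite) h4
    rw [← h1]
    show ((normalizer (Y' : Set H)).subgroupOf S).index = _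
    congr 1
    ext x
    show _ ↔ x ∈ normalizer ((Y : Subgroup S) : Set S)
    rw [mem_subgroupOf, mem_normalizer_iff, mem_normalizer_iff]
    constructor
    · intro h z
      have h3 := h (z : H)
      constructor
      · intro hz
        have h4 : ((x : H) * z * (x : H)⁻¹) ∈ Y' := h3.1 ⟨z, hz, rfl⟩
        obtain ⟨w, hw, hw2⟩ := h4
        have : w = x * z * x⁻¹ := Subtype.ext hw2
        rw [← this]; exact hw
      · intro hz
        have h4 : (z : H) ∈ Y' := h3.2 ⟨x * z * x⁻¹, hz, rfl⟩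
        obtain ⟨w, hw, hw2⟩ := h4
        have : w = z := Subtype.ext hw2
        rw [← this]; exact hw
    · intro h z
      constructor
      · rintro ⟨w, hw, rfl⟩
        exact ⟨x * w * x⁻¹, (h w).1 hw, rfl⟩
      · rintro ⟨w, hw, hw2⟩
        refine ⟨x⁻¹ * w * x, (h _).2 ?_, ?_⟩
        · have : x * (x⁻¹ * w * x) * x⁻¹ = w := by group
          rw [this]; exact hw
        · show (x : H)⁻¹ * w * x = z
          have : (w : H) = x * z * (x : H)⁻¹ := hw2
          rw [this]; group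
  -- the centraliser
  have hCodd : ¬ 2 ∣ Nat.card (centralizer (Y' : Set H)) := by
    intro h2
    obtain ⟨c, hc⟩ := exists_prime_orderOf_dvd_card' 2 h2
    have hY1 : Y' ≠ ⊥ := by
      intro hb
      rw [hb, Subgroup.card_bot] at hcY'
      omega
    obtain ⟨⟨y, hy⟩, hy1⟩ := (Subgroup.ne_bot_iff_exists_ne_one).1 hY1
    have hoy : orderOf y = 19 := by
      have h3 : orderOf (⟨y, hy⟩ : Y') ∣ 19 := hcY' ▸ orderOf_dvd_natCard _
      rw [Subgroup.orderOf_mk] at h3
      rcases (Nat.dvd_prime (by norm_num)).1 h3 with h4 | h4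
      · exact absurd (Subtype.ext (orderOf_eq_one_iff.1 h4)) hy1
      · exact h4
    have hcm : Commute y (c : H) := (mem_centralizer_iff.1 c.2 y hy)
    have hc' : orderOf (c : H) = 2 := by rw [Subgroup.orderOf_coe]; exact hc
    have h5 := eq_one_of_commute (by norm_num) Nat.prime_two (by norm_num) hi ⟨1, by rw [hoy, pow_one]⟩
      ⟨1, by rw [hc', pow_one]⟩ hcm (by intro h; rw [h, orderOf_one] at hc'; omega)
    exact hy1 (Subtype.ext h5)
  have hkey := Subgroup.card_dvd_of_injective _ (QuotientGroup.kerLift_injective Y'.normalizerMonoidHom)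
  rw [Subgroup.normalizerMonoidHom_ker, ← Subgroup.index, ← Subgroup.relIndex, IsCyclic.card_mulAut, hcY'] at hkey
  have hcN : Nat.card (normalizer (Y' : Set H)) =
      Nat.card (centralizer (Y' : Set H)) * (centralizer (Y' : Set H)).relIndex (normalizer (Y' : Set H)) := by
    have hle : centralizer (Y' : Set H) ≤ normalizer (Y' : Set H) := centralizer_le_normalizer _
    have h1 := ((centralizer (Y' : Set H)).subgroupOf (normalizer (Y' : Set H))).card_mul_index
    rw [Nat.card_congr (subgroupOfEquivOfLe hle).toEquiv] at h1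
    exact h1.symm
  have h4N : ¬ 4 ∣ Nat.card (normalizer (Y' : Set H)) := by
    intro h4
    rw [hcN] at h4
    have h5 : Nat.Coprime 4 (Nat.card (centralizer (Y' : Set H))) := by
      have : (4 : ℕ) = 2 ^ 2 := by norm_num
      rw [this]
      exact Nat.Coprime.pow_left 2 ((Nat.Prime.coprime_iff_not_dvd Nat.prime_two).2 hCodd)
    have h6 := (h5.dvd_of_dvd_mul_left h4).trans hkey
    have h7 : Nat.totient 19 = 18 := by rw [Nat.totient_prime (by norm_num)]
    rw [h7] at h6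
    omega
  have h4n : 4 ∣ Nat.card (Sylow 19 S) := by
    have h5 := (normalizer (Y' : Set H)).card_mul_index
    rw [hidxN] at h5
    rw [← h5] at h8
    by_contra h6
    generalize Nat.card (normalizer (Y' : Set H)) = A at *
    generalize Nat.card (Sylow 19 S) = B at *
    rcases Nat.even_or_odd' A with ⟨A', rfl | rfl⟩
    · have hA' : Odd A' := by
        rw [← Nat.not_even_iff_odd, even_iff_two_dvd]
        rintro ⟨l, rfl⟩
        exact h4N ⟨l, by ring⟩
      have h7 : 4 ∣ A' * B := by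
        have : 2 * 4 ∣ 2 * (A' * B) := by rw [← mul_assoc]; exact h8
        exact Nat.dvd_of_mul_dvd_mul_left (by norm_num) this
      have h9 : Nat.Coprime 4 A' := by
        have : (4 : ℕ) = 2 ^ 2 := by norm_num
        rw [this]
        exact Nat.Coprime.pow_left 2 (Nat.coprime_two_left.2 hA')
      exact h6 (h9.dvd_of_dvd_mul_left h7)
    · have h9 : Nat.Coprime 8 (2 * A' + 1) := by
        have : (8 : ℕ) = 2 ^ 3 := by norm_num
        rw [this]
        exact Nat.Coprime.pow_left 3 (Nat.coprime_two_left.2 ⟨A', rfl⟩)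
      exact h6 ((by norm_num : 4 ∣ 8).trans (h9.dvd_of_dvd_mul_left h8))
  have hmem : Nat.card (Sylow 19 S) ∈ (1332 : ℕ).divisors := Nat.mem_divisors.2 ⟨hn, by norm_num⟩
  have hlist : ∀ n ∈ (1332 : ℕ).divisors, n % 19 = 1 → ¬ 4 ∣ n := by decide +kernel
  exact hlist _ hmem hmod h4n

end Cfsg.Agent.H362.ReeElim
end

-- part: H362/ReeMain
section
/-!
# The small Ree groups are determined by the order and the numbers of elements of given order
-/

set_option autoImplicit false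
set_option linter.unusedSectionVars false

namespace Cfsg.Agent.H362.ReeMain

open Subgroup
open Cfsg
open Cfsg.Agent.H362.ReeNum
open Cfsg.Agent.H362.NseArith (Typ)
open Cfsg.Agent.H362.IsoGroup
open Cfsg.Agent.H418.Nse

universe u

/-- the values for `²G₂(q)` -/
theorem ree_vals {K : Type*} [Field K] [Fintype K] {m : ℕ} (hm : 1 ≤ m) (hK : Fintype.card K = 3 ^ (2 * m + 1)) :
    Finite ↥(Cfsg.Lie.twistedG2 K (3 ^ m)) ∧
    (Nat.card ↥(Cfsg.Lie.twistedG2 K (3 ^ m)) : ℤ) = vG ((3 ^ (2 * m + 1) : ℕ) : ℤ) ∧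
    (∀ d : ℕ, Nat.card {x : ↥(Cfsg.Lie.twistedG2 K (3 ^ m)) // orderOf x = d} ≠ 0 →
      Typ ((3 ^ (2 * m + 1) : ℕ) : ℤ) ((3 ^ (2 * m + 1) - 3 ^ (m + 1) + 1 : ℕ) : ℤ)
        ((3 ^ (2 * m + 1) + 3 ^ (m + 1) + 1 : ℕ) : ℤ)
        (Nat.card {x : ↥(Cfsg.Lie.twistedG2 K (3 ^ m)) // orderOf x = d} : ℤ)) ∧
    (Nat.card {x : ↥(Cfsg.Lie.twistedG2 K (3 ^ m)) // orderOf x = 2} : ℤ) = vb ((3 ^ (2 * m + 1) : ℕ) : ℤ) ∧
    (Nat.card {x : ↥(Cfsg.Lie.twistedG2 K (3 ^ m)) // orderOf x = 3} : ℤ) = vc ((3 ^ (2 * m + 1) : ℕ) : ℤ) ∧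
    (Nat.card {x : ↥(Cfsg.Lie.twistedG2 K (3 ^ m)) // orderOf x = 9} : ℤ) = vd ((3 ^ (2 * m + 1) : ℕ) : ℤ) := by
  have hfin : Finite ↥(Cfsg.Lie.twistedG2 K (3 ^ m)) := by
    apply Nat.finite_of_card_ne_zero
    rw [Cfsg.Agent.LieRecognition.ReeFinal.card hK]
    have h1 : 0 < 3 ^ (2 * m + 1) := by positivity
    have h2 : 0 < 3 ^ (2 * m + 1) - 1 := by
      have : 3 ^ 1 ≤ 3 ^ (2 * m + 1) := Nat.pow_le_pow_right (by norm_num) (by omega)
      omega
    positivity
  exact ⟨hfin, ReeVals.card_int (Cfsg.Agent.LieRecognition.ReeFinal.data hK) hK,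
    ReeVals.main (Cfsg.Agent.LieRecognition.ReeFinal.data hK) hm hK (Cfsg.Agent.S1116.result hK hm)
      (fun x hx hx1 => Cfsg.Agent.LieRecognition.ReeTorusTw.isCyclic_centralizer hK hx hx1)⟩

/-- numerical facts -/
theorem nums {m : ℕ} (hm : 1 ≤ m) {q s t : ℕ} (hq : q = 3 ^ (2 * m + 1))
    (hs : s = 3 ^ (2 * m + 1) - 3 ^ (m + 1) + 1) (ht : t = 3 ^ (2 * m + 1) + 3 ^ (m + 1) + 1) :
    q % 8 = 3 ∧ s * t + q = q ^ 2 + 1 ∧ 1 < s ∧ s < t ∧ Nat.Coprime s t ∧ ¬ 2 ∣ s * t ∧ ¬ 3 ∣ s * t ∧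
      703 ≤ s * t ∧ (m = 1 ∨ 58807 ≤ s * t) ∧ (2 * s ≤ t + 1 → m = 1) := by
  have X := ReeVals.ctx hm
  have hoq := ReeVals.odd_q m
  rw [← hs, ← ht, ← hq] at X
  rw [← hq] at hoq
  have hst := ReeNum.st X
  have h27 : 27 ≤ q := by exact_mod_cast X.q27
  have hle : 3 ^ (m + 1) ≤ 3 ^ (2 * m + 1) := Nat.pow_le_pow_right (by norm_num) (by omega)
  have hst' : s * t + q = q ^ 2 + 1 := by
    have : ((s * t + q : ℕ) : ℤ) = ((q ^ 2 + 1 : ℕ) : ℤ) := by
      push_cast
      rw [hst]; ring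
    exact_mod_cast this
  have hq243 : m ≠ 1 → 243 ≤ q := by
    intro h
    rw [hq]
    calc 243 = 3 ^ 5 := by norm_num
      _ ≤ 3 ^ (2 * m + 1) := Nat.pow_le_pow_right (by norm_num) (by omega)
  refine ⟨?_, hst', ?_, ?_, ?_, ?_, ?_, ?_, ?_, ?_⟩
  · rw [hq, pow_add, pow_mul, pow_one, Nat.mul_mod, Nat.pow_mod]
    norm_num
  · have h1 : 3 ^ (m + 1) < 3 ^ (2 * m + 1) := Nat.pow_lt_pow_right (by norm_num) (by omega)
    omega
  · have h1 : 0 < 3 ^ (m + 1) := by positivity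
    omega
  · apply Nat.coprime_of_dvd
    intro p hp h1 h2
    exact NseArith.prime_s_t X hoq (Nat.prime_iff_prime_int.1 hp) (by exact_mod_cast h1) (by exact_mod_cast h2)
  · intro h
    have := NseArith.prime_s X hoq (p := (2 : ℕ)) (Nat.prime_iff_prime_int.1 Nat.prime_two) (by exact_mod_cast h)
    exact this.1 (by norm_num)
  · intro h
    have := NseArith.prime_s X hoq (p := (3 : ℕ)) (Nat.prime_iff_prime_int.1 Nat.prime_three) (by exact_mod_cast h)
    exact this.2.1 (by norm_num)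
  · nlinarith only [hst, h27]
  · by_cases h1 : m = 1
    · exact Or.inl h1
    · right
      have := hq243 h1
      nlinarith only [hst, this]
  · intro h
    by_contra h1
    have h243 := hq243 h1
    have hrr : (3 ^ (m + 1)) ^ 2 = 3 * q := by
      rw [hq, ← pow_mul]; ring
    have h2 : q ≤ 3 * 3 ^ (m + 1) := by omega
    nlinarith only [h243, hrr, h2]

/-- elimination of the orders 2520, 175560 -/
theorem not_dvd_small {m : ℕ} (hm : 1 ≤ m) {q s t : ℕ} (hq : q = 3 ^ (2 * m + 1))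
    (hs : s = 3 ^ (2 * m + 1) - 3 ^ (m + 1) + 1) (ht : t = 3 ^ (2 * m + 1) + 3 ^ (m + 1) + 1) {N : ℕ}
    (hN : N = 2520 ∨ N = 175560) : ¬ s * t ∣ N := by
  obtain ⟨-, hst, -, -, -, h2, -, h703, h58, -⟩ := nums hm hq hs ht
  intro hd
  have hN0 : 0 < N := by omega
  have hle := Nat.le_of_dvd hN0 hd
  rcases h58 with h1 | h58
  · subst h1
    have h3 : s * t = 703 := by
      rw [hs, ht]; norm_num
    rw [h3] at hd
    rcases hN with rfl | rfl <;> revert hd <;> norm_num
  · rcases hN with rfl | rfl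
    · omega
    · obtain ⟨k, hk⟩ := hd
      have hk3 : k < 3 := by
        by_contra hge
        have : s * t * 3 ≤ s * t * k := Nat.mul_le_mul_left _ (by omega)
        (clear * - h58 hk this; omega)
      apply h2
      interval_cases k
      · omega
      · omega
      · omega

/-- **The main theorem.** -/
theorem main {K : Type*} [Field K] [Fintype K] {m : ℕ} (hm : 1 ≤ m)
    (hK : Fintype.card K = 3 ^ (2 * m + 1)) {G : Type u} [Group G] [Finite G]
    (hcard : Nat.card G = Nat.card ↥(Cfsg.Lie.twistedG2 K (3 ^ m)))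
    (hnse : {c : ℕ | 0 < c ∧ ∃ n : ℕ, c = Nat.card {g : G // orderOf g = n}} =
      {c : ℕ | 0 < c ∧ ∃ n : ℕ, c = Nat.card {g : ↥(Cfsg.Lie.twistedG2 K (3 ^ m)) // orderOf g = n}}) :
    Nonempty (G ≃* ↥(Cfsg.Lie.twistedG2 K (3 ^ m))) := by
  classical
  obtain ⟨hfin, hRG, hRT, hR2, hR3, hR9⟩ := ree_vals hm hK
  obtain ⟨q, hq⟩ : ∃ q, q = 3 ^ (2 * m + 1) := ⟨_, rfl⟩
  obtain ⟨s, hs⟩ : ∃ s, s = 3 ^ (2 * m + 1) - 3 ^ (m + 1) + 1 := ⟨_, rfl⟩
  obtain ⟨t, ht⟩ : ∃ t, t = 3 ^ (2 * m + 1) + 3 ^ (m + 1) + 1 := ⟨_, rfl⟩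
  obtain ⟨n8, nst, ns1, nlt, ncop, n2, n3, n703, n58, n27⟩ := nums hm hq hs ht
  have X := ReeVals.ctx hm
  have hoq := ReeVals.odd_q m
  rw [← hs, ← ht, ← hq] at X hRT
  rw [← hq] at hoq hRG hR2 hR3 hR9
  obtain ⟨l1, l2, l3⟩ := NseArith.vb_lt X
  have h27 : 27 ≤ q := by exact_mod_cast X.q27
  -- transfer
  have hT : ∀ n, co G n ≠ 0 → Typ q s t (co G n) := by
    intro n hn
    have h1 : co G n ∈ {c : ℕ | 0 < c ∧ ∃ n : ℕ, c = Nat.card {g : G // orderOf g = n}} :=
      ⟨Nat.pos_of_ne_zero hn, n, rfl⟩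
    rw [hnse] at h1
    obtain ⟨h2, d, h3⟩ := h1
    have h4 := hRT d (by rw [← h3]; exact hn)
    rw [← h3] at h4
    exact h4
  have hback : ∀ d, Nat.card {x : ↥(Cfsg.Lie.twistedG2 K (3 ^ m)) // orderOf x = d} ≠ 0 →
      ∃ n, co G n = Nat.card {x : ↥(Cfsg.Lie.twistedG2 K (3 ^ m)) // orderOf x = d} := by
    intro d hd
    have h1 : Nat.card {x : ↥(Cfsg.Lie.twistedG2 K (3 ^ m)) // orderOf x = d} ∈
        {c : ℕ | 0 < c ∧ ∃ n : ℕ, c = Nat.card {g : ↥(Cfsg.Lie.twistedG2 K (3 ^ m)) // orderOf g = n}} :=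
      ⟨Nat.pos_of_ne_zero hd, d, rfl⟩
    rw [← hnse] at h1
    obtain ⟨h2, n, h3⟩ := h1
    exact ⟨n, h3.symm⟩
  have hval : ∀ (d : ℕ) (v : ℤ), 0 < v → (Nat.card {x : ↥(Cfsg.Lie.twistedG2 K (3 ^ m)) // orderOf x = d} : ℤ) = v →
      ∃ n, (co G n : ℤ) = v := by
    intro d v hv h1
    obtain ⟨n, hn⟩ := hback d (by intro h; rw [h] at h1; push_cast at h1; omega)
    exact ⟨n, by rw [hn, h1]⟩
  have hGi : (Nat.card G : ℤ) = vG (q : ℤ) := by rw [hcard]; exact hRG
  obtain ⟨-, iso1, iso2⟩ := NseArith.isolated X hoq hGi hT (hval 2 _ (by omega) hR2) (hval 3 _ (by omega) hR3)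
    (hval 9 _ (by omega) hR9)
  have hq1 : 1 ≤ q := by (clear * - h27; omega)
  have hGn : Nat.card G = q ^ 3 * (q ^ 3 + 1) * (q - 1) := by
    have : (Nat.card G : ℤ) = ((q ^ 3 * (q ^ 3 + 1) * (q - 1) : ℕ) : ℤ) := by
      rw [hGi]
      unfold vG
      push_cast [Nat.cast_sub hq1]
      ring
    exact_mod_cast this
  have hcopos : ∀ x : G, co G (orderOf x) ≠ 0 := by
    intro x h
    unfold co at h
    have : Nonempty {g : G // orderOf g = orderOf x} := ⟨⟨x, rfl⟩⟩
    exact Nat.card_pos.ne' h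
  have hyp : ReeGroup.Hyp G q s t :=
    { card := hGn, q8 := n8, st := nst, s1 := ns1, t1 := by (clear * - ns1 nlt; omega), cop := ncop, two := n2, three := n3
      is := by
        intro x p p' hp hp' h1 h2 h3 h4
        exact hcopos x (iso1 p p' _ hp hp' (by exact_mod_cast h1) (fun h => h2 (by exact_mod_cast h)) h3 h4)
      it := by
        intro x p p' hp hp' h1 h2 h3 h4
        exact hcopos x (iso2 p p' _ hp hp' (by exact_mod_cast h1) (fun h => h2 (by exact_mod_cast h)) h3 h4) }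
  obtain ⟨H, iH, fH, S, hSn, hSs, hSna, hS4, hS16, hH8, hHd, hHs, hHt, hinv, hiso⟩ := hyp.exists_simple
  have hS2 : 2 ∣ Nat.card S := (by norm_num : 2 ∣ 4).trans hS4
  have hSH : Nat.card S ∣ Nat.card H := S.card_subgroup_dvd_card
  rcases ReeElim.classify hSna hS4 hS16 with h | ⟨F, iF, iF', hodd, ⟨e⟩⟩ | ⟨h8, h⟩ | ⟨F, iF, iF', m₀, hm₀, hF, ⟨e⟩⟩
  · -- small
    exfalso
    have h1 : Nat.card {x : S // orderOf x = 2} ≤ Nat.card S := Nat.card_le_card_of_injective _ Subtype.val_injective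
    have h2 : 0 < Nat.card {x : S // orderOf x = 2} := by
      have : Fact (Nat.Prime 2) := ⟨Nat.prime_two⟩
      obtain ⟨a, ha⟩ := exists_prime_orderOf_dvd_card' 2 hS2
      have : Nonempty {x : S // orderOf x = 2} := ⟨⟨a, ha⟩⟩
      exact Nat.card_pos
    have h3 := Nat.le_of_dvd h2 hinv
    (clear * - n703 h h1 h3; omega)
  · -- PSL(2, q₀)
    exfalso
    have hconj : ∀ x y : S, orderOf x = 2 → orderOf y = 2 → IsConj x y := by
      intro x y hx hy
      have h1 := ClassicalGeometry.SLTwoFour.psl_isConj hodd (e x) (e y) (by rw [MulEquiv.orderOf_eq, hx])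
        (by rw [MulEquiv.orderOf_eq, hy])
      have h2 := MonoidHom.map_isConj e.symm.toMonoidHom h1
      simpa only [_root_.isConj_iff, _root_.Subtype.exists, _root_.MulEquiv.toMonoidHom_eq_coe, _root_.MonoidHom.coe_coe, _root_.MulEquiv.symm_apply_apply] using h2
    have hd : s * t ∣ Nat.card S := hinv.trans (ReeElim.involutions_dvd hconj hS2)
    obtain ⟨k1, k2⟩ := ReeElim.psl_two hodd e (hHs.subgroup S) (hHt.subgroup S) ncop n2 ns1 nlt hd (by
      intro p k hp hpst hpk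
      rcases Nat.eq_zero_or_pos k with rfl | hk
      · exact one_dvd _
      have h1 : p ^ k ∣ Nat.card G := hpk.trans (hSH.trans hHd)
      rw [hyp.card'] at h1
      have hpZ : Prime (p : ℤ) := Nat.prime_iff_prime_int.1 hp
      obtain ⟨z2, z3, zq, zq1, zq2⟩ := NseArith.prime_s X hoq hpZ (by exact_mod_cast hpst)
      have c1 : Nat.Coprime (p ^ k) (q ^ 3) := by
        apply Nat.Coprime.pow
        exact (Nat.Prime.coprime_iff_not_dvd hp).2 (fun h => zq (by exact_mod_cast h))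
      have c2 : Nat.Coprime (p ^ k) (q + 1) := by
        apply Nat.Coprime.pow_left
        exact (Nat.Prime.coprime_iff_not_dvd hp).2 (fun h => zq2 (by exact_mod_cast h))
      have c3 : Nat.Coprime (p ^ k) (q - 1) := by
        apply Nat.Coprime.pow_left
        refine (Nat.Prime.coprime_iff_not_dvd hp).2 (fun h => zq1 ?_)
        have : ((q - 1 : ℕ) : ℤ) = (q : ℤ) - 1 := by push_cast [Nat.cast_sub hq1]; ring
        rw [← this]
        exact_mod_cast h
      exact (Nat.Coprime.mul_right c1 c2).dvd_of_dvd_mul_left (c3.dvd_of_dvd_mul_right h1))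
    have hm1 := n27 k2
    subst hm1
    have hs19 : s = 19 := by rw [hs]; norm_num
    have ht37 : t = 37 := by rw [ht]; norm_num
    have hc2 := SmallSimple.PSLTwoPart.card_psl_two_odd hodd
    rw [← Nat.card_congr e.toEquiv, k1, ht37] at hc2
    have hS : Nat.card S = 25308 := by omega
    have hna : H363.Frat.NonAdj H 19 2 := hHs.nonAdj (by norm_num) Nat.prime_two (by rw [hs19]) (by rw [hs19]; norm_num)
    exact ReeElim.kill_37 S hS hH8 hna
  · exfalso
    have hconj := SmallSimple.SylowEight.isConj_of_card_sylow_eight hSna h8 hS16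
    have hd : s * t ∣ Nat.card S := hinv.trans (ReeElim.involutions_dvd hconj hS2)
    exact not_dvd_small hm hq hs ht h hd
  · -- Ree groups
    obtain ⟨hfin₀, hc₀, -, hi₀, -, -⟩ := ree_vals hm₀ hF
    obtain ⟨q₀, hq₀⟩ : ∃ q₀, q₀ = 3 ^ (2 * m₀ + 1) := ⟨_, rfl⟩
    rw [← hq₀] at hc₀ hi₀
    have hq₀1 : 1 ≤ q₀ := by rw [hq₀]; exact Nat.one_le_pow _ _ (by norm_num)
    have hcS : (Nat.card S : ℤ) = vG (q₀ : ℤ) := by rw [Nat.card_congr e.toEquiv]; exact hc₀
    have hiS : (Nat.card {x : S // orderOf x = 2} : ℤ) = vb (q₀ : ℤ) := by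
      rw [← hi₀]
      have : Nat.card {x : S // orderOf x = 2} =
          Nat.card {x : ↥(Cfsg.Lie.twistedG2 F (3 ^ m₀)) // orderOf x = 2} := by
        apply Nat.card_congr
        exact e.toEquiv.subtypeEquiv (fun x => by
          show orderOf x = 2 ↔ orderOf (e x) = 2
          rw [MulEquiv.orderOf_eq])
      rw [this]
    have hiS' : Nat.card {x : S // orderOf x = 2} = q₀ ^ 2 * (q₀ * (q₀ - 1) + 1) := by
      have : (Nat.card {x : S // orderOf x = 2} : ℤ) = ((q₀ ^ 2 * (q₀ * (q₀ - 1) + 1) : ℕ) : ℤ) := by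
        rw [hiS]
        unfold vb
        push_cast [Nat.cast_sub hq₀1]
        ring
      exact_mod_cast this
    rw [hiS'] at hinv
    have c3 : Nat.Coprime (s * t) (q₀ ^ 2) := by
      rw [hq₀, ← pow_mul]
      apply Nat.Coprime.pow_right
      exact ((Nat.Prime.coprime_iff_not_dvd Nat.prime_three).2 n3).symm
    have hle1 : q ≤ q₀ := by
      have h1 := Nat.le_of_dvd (by (clear * -; positivity)) (c3.dvd_of_dvd_mul_left hinv)
      by_contra hlt
      push Not at hlt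
      have h2 : s * t = q * (q - 1) + 1 := by
        obtain ⟨q', rfl⟩ : ∃ q', q = q' + 1 := ⟨q - 1, by (clear * - h27; omega)⟩
        have : q' + 1 - 1 = q' := by (clear * -; omega)
        rw [this]
        linarith only [nst]
      have h3 : q₀ * (q₀ - 1) < q * (q - 1) := by
        apply Nat.mul_lt_mul_of_lt_of_le hlt (by (clear * - hlt; omega)) (by (clear * - h27; omega))
      (clear * - h1 h2 h3; omega)
    have hle2 : q₀ ≤ q := by
      by_contra hlt
      push Not at hlt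
      have h1 : Nat.card S ≤ Nat.card G := Nat.le_of_dvd Nat.card_pos (hSH.trans hHd)
      have h2 : vG (q₀ : ℤ) ≤ vG (q : ℤ) := by rw [← hcS, ← hGi]; exact_mod_cast h1
      have h3 : vG (q : ℤ) < vG (q₀ : ℤ) := by
        unfold vG
        have a1 : (q : ℤ) < q₀ := by exact_mod_cast hlt
        have a2 : (27 : ℤ) ≤ q := by exact_mod_cast h27
        have a3 : (q : ℤ) ^ 3 < (q₀ : ℤ) ^ 3 := by gcongr
        have a4 : (0 : ℤ) < (q : ℤ) ^ 3 := by positivity
        have a5 : (q : ℤ) ^ 3 * ((q : ℤ) ^ 3 + 1) < (q₀ : ℤ) ^ 3 * ((q₀ : ℤ) ^ 3 + 1) := by gcongr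
        have a6 : (0 : ℤ) < (q : ℤ) - 1 := by (clear * - h27; omega)
        calc (q : ℤ) ^ 3 * ((q : ℤ) ^ 3 + 1) * ((q : ℤ) - 1) < (q₀ : ℤ) ^ 3 * ((q₀ : ℤ) ^ 3 + 1) * ((q : ℤ) - 1) :=
              mul_lt_mul_of_pos_right a5 a6
          _ ≤ (q₀ : ℤ) ^ 3 * ((q₀ : ℤ) ^ 3 + 1) * ((q₀ : ℤ) - 1) := by
              apply mul_le_mul_of_nonneg_left (by (clear * - hlt; omega))
              (clear * - hq₀1; positivity)
      omega
    have hqq : q₀ = q := le_antisymm hle2 hle1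
    have hmm : m₀ = m := by
      rw [hq₀, hq] at hqq
      have := Nat.pow_right_injective (le_refl 2 |>.trans (by norm_num : 2 ≤ 3)) hqq
      omega
    subst hmm
    have hSG : Nat.card S = Nat.card G := by
      have : (Nat.card S : ℤ) = (Nat.card G : ℤ) := by rw [hcS, hGi, hqq]
      exact_mod_cast this
    obtain ⟨e1⟩ := hiso hSG
    obtain ⟨e2⟩ := ReeField.twistedG2_congr (F := F) (K := K) (by rw [hF, hK]) (3 ^ m₀)
    exact ⟨e1.trans (e.trans e2)⟩

end Cfsg.Agent.H362.ReeMain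
end
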